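import Cfsg.Agent.Lib.Classical.QutritU.Three.Tools
import Cfsg.Agent.Lib.Classical.HermField

/-!
# A transvection fills the special unitary group of degree three
-/

set_option autoImplicit false
set_option linter.unusedSectionVars false
set_option linter.unusedSimpArgs false
set_option linter.style.haveILetI false
set_option backward.isDefEq.respectTransparency false

namespace CfsgLib.Classical.QutritU

open Matrix CfsgLib.Classical CfsgLib.Classical.Clifford4 CfsgLib.Classical.GeoThree.C6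
open scoped MatrixGroups

variable {K : Type*} [Field K]

local notation "M3" => Matrix (Fin 3) (Fin 3) K
local notation "G3" => GL (Fin 3) K

/-- The conjugation inverts the cube root of unity, and some element of norm one has order at least six. -/
structure Par (σ : K →+* K) (W : Omega K) : Prop where
  quad : Quad σ
  conj : σ W.ω = W.ω ^ 2
  large : ∃ t, σ t * t = 1 ∧ ∀ n, 0 < n → n ≤ 5 → t ^ n ≠ 1

/-- The homology with centre the first coordinate vector. -/
def tauG (W : Omega K) : GL (Fin 3) K :=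
  ⟨!![W.ω, 0, 0; 0, 1, 0; 0, 0, 1], !![W.ω ^ 2, 0, 0; 0, 1, 0; 0, 0, 1], by
    ext i j; fin_cases i <;> fin_cases j <;> simp [Matrix.mul_apply, Fin.sum_univ_three] <;> grind [W.cube], by
    ext i j; fin_cases i <;> fin_cases j <;> simp [Matrix.mul_apply, Fin.sum_univ_three] <;> grind [W.cube]⟩

/-- A unitary group containing the normaliser generators. -/
structure Ov (σ : K →+* K) (W : Omega K) (L : Subgroup (GL (Fin 3) K)) : Prop where
  isU : ∀ g ∈ L, IsU σ g
  d : W.dG ∈ L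
  p : W.pG ∈ L
  f : W.fG ∈ L
  τ : tauG W ∈ L

/-- Unitary matrices of determinant one lie in `L`. -/
def IsFull (σ : K →+* K) (L : Subgroup (GL (Fin 3) K)) : Prop :=
  ∀ g : GL (Fin 3) K, IsU σ g → (g : Matrix (Fin 3) (Fin 3) K).det = 1 → g ∈ L

variable {σ : K →+* K} {W : Omega K} {L : Subgroup (GL (Fin 3) K)}

theorem Par.isConjugation (hP : Par σ W) : IsConjugation σ :=
  ⟨hP.quad.invol, fun e => W.sq_ne (by have := hP.conj; rw [e] at this; simpa using this.symm)⟩

theorem Par.sq (hP : Par σ W) : σ (W.ω ^ 2) = W.ω := by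
  rw [← hP.conj, hP.quad.invol]

theorem pG_mulVec (v : Fin 3 → K) : (W.pG : M3) *ᵥ v = ![v 2, v 0, v 1] := by
  funext i; fin_cases i <;> simp [Omega.pG, Matrix.mulVec, dotProduct, Fin.sum_univ_three]

theorem pG_inv_mulVec (v : Fin 3 → K) : ((W.pG⁻¹ : G3) : M3) *ᵥ v = ![v 1, v 2, v 0] := by
  funext i; fin_cases i <;> simp [Omega.pG, Matrix.mulVec, dotProduct, Fin.sum_univ_three]

/-- A block on the plane of the last two coordinates. -/
def smat (σ : K →+* K) (x y : K) : Matrix (Fin 3) (Fin 3) K := !![1, 0, 0; 0, x, -σ y; 0, y, σ x]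

theorem det_smat {x y : K} (h : σ x * x + σ y * y = 1) : (smat σ x y).det = 1 := by
  simp [smat, det_fin_three]; linear_combination h

theorem smat_mulVec (x y : K) (v : Fin 3 → K) :
    smat σ x y *ᵥ v = ![v 0, x * v 1 - σ y * v 2, y * v 1 + σ x * v 2] := by
  funext i; fin_cases i <;> simp [smat, Matrix.mulVec, dotProduct, Fin.sum_univ_three] <;> ring

theorem isU_smat (hq : Quad σ) {x y : K} (h : σ x * x + σ y * y = 1) {g : G3} (e : (g : M3) = smat σ x y) :
    IsU σ g := by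
  rw [IsU, e]
  ext i j; fin_cases i <;> fin_cases j <;>
    simp [smat, adj, Matrix.mul_apply, Fin.sum_univ_three, hq.invol] <;> grind

section

variable (hP : Par σ W) (hL : Ov σ W L)
include hP hL

theorem smat_mem {r : Fin 3 → K} (hr : RootIn σ L r) (hr0 : r 0 = 0) (hne : r ≠ 0) {x y : K}
    (h : σ x * x + σ y * y = 1) {g : G3} (e : (g : M3) = smat σ x y) : g ∈ L := by
  have hq := hP.quad
  have hiso : σ (r 1) * r 1 + σ (r 2) * r 2 = 0 := by
    have := hr.1; rw [hd_apply, hr0, mul_zero, zero_add] at this; exact this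
  have hn : σ (r 1) * r 1 ≠ 0 := fun e0 => hne (by
    have e2 : r 2 = 0 := by
      rw [e0, zero_add, mul_eq_zero] at hiso
      exact hiso.elim (fun h2 => (map_eq_zero σ).1 h2) id
    have e1 : r 1 = 0 := (mul_eq_zero.1 e0).elim (fun h1 => (map_eq_zero σ).1 h1) id
    funext i; fin_cases i <;> simp [hr0, e1, e2])
  have hw : W.ω - 1 ≠ 0 := sub_ne_zero.2 W.ne_one
  have hw' : W.ω ^ 2 - 1 ≠ 0 := sub_ne_zero.2 W.sq_ne_one
  obtain ⟨k, hk⟩ : ∃ k, k = ((W.ω - 1) * (σ (r 1) * r 1))⁻¹ := ⟨_, rfl⟩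
  -- the second root
  have hs : RootIn σ L (k • ![0, W.ω * r 1, r 2]) := by
    have e1 : ((W.pG * tauG W * W.pG⁻¹ : G3) : M3) *ᵥ r = ![0, W.ω * r 1, r 2] := by
      rw [Units.val_mul, Units.val_mul, ← mulVec_mulVec, ← mulVec_mulVec, pG_inv_mulVec, pG_mulVec]
      funext i; fin_cases i <;> simp [tauG, Matrix.mulVec, dotProduct, Fin.sum_univ_three, hr0]
    have hm := L.mul_mem (L.mul_mem hL.p hL.τ) (L.inv_mem hL.p)
    exact (e1 ▸ hr.conj hm (hL.isU _ hm)).smul hq k
  have hrs : hd σ r (k • ![0, W.ω * r 1, r 2]) = 1 := by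
    obtain ⟨hs1, hr1⟩ := mul_ne_zero_iff.1 hn
    rw [hd_smul, hd_apply, hk]
    simp [hr0]
    field_simp
    linear_combination hiso
  obtain ⟨z, hz0, hz⟩ : ∃ z : K, z ≠ 0 ∧ σ z = -z :=
    ⟨W.s, W.s_ne, by rw [Omega.s, map_sub, hP.conj, hP.sq]; ring⟩
  refine plane_mem hq hz0 hz hL.isU hr hs hrs (isU_smat hq h e) (fun v h1 h2 => ?_) ?_ ?_
  · rw [hd_apply, hr0, map_zero, zero_mul, zero_add] at h1
    rw [hd_smul_left, hd_apply, mul_eq_zero] at h2
    have hk0 : σ k ≠ 0 := by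
      rw [Ne, map_eq_zero, hk]; exact inv_ne_zero (mul_ne_zero hw hn)
    replace h2 := h2.resolve_left hk0
    simp [hP.conj] at h2
    have hr1 : σ (r 1) ≠ 0 := left_ne_zero_of_mul hn
    have hv1 : v 1 = 0 := (mul_eq_zero.1
      (show (W.ω ^ 2 - 1) * σ (r 1) * v 1 = 0 by linear_combination h2 - h1)).resolve_left (mul_ne_zero hw' hr1)
    have hv2 : v 2 = 0 := by
      rw [hv1, mul_zero, zero_add, mul_eq_zero] at h1
      refine h1.resolve_left fun e2 => hn ?_
      rw [e2, zero_mul, add_zero] at hiso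
      exact hiso
    rw [e, smat_mulVec]
    funext i; fin_cases i <;> simp [hv1, hv2]
  · rw [e, smat_mulVec, hd_smul_left, hd_apply, hk]
    simp [hr0, hq.invol, hP.conj, hP.sq]
    field_simp
    grind [W.cube, W.root]
  · rw [e, smat_mulVec, hd_apply]
    simp [hr0, hq.invol]
    grind

theorem full_of_coord [Finite K] {r : Fin 3 → K} (hr : RootIn σ L r) (hr0 : r 0 = 0) (hne : r ≠ 0) :
    IsFull σ L := by
  classical
  have hq := hP.quad
  have h12 : ∀ x y : K, σ x * x + σ y * y = 1 → ∃ k ∈ L, (k : M3).det = 1 ∧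
      ∀ v, (k : M3) *ᵥ v = ![v 0, x * v 1 - σ y * v 2, y * v 1 + σ x * v 2] := fun x y h => by
    obtain ⟨g, e⟩ : ∃ g : G3, (g : M3) = smat σ x y :=
      ⟨GeneralLinearGroup.mkOfDetNeZero (smat σ x y) (by rw [det_smat h]; exact one_ne_zero), rfl⟩
    exact ⟨g, smat_mem hP hL hr hr0 hne h e, by rw [e, det_smat h], fun v => by rw [e, smat_mulVec]⟩
  have hdp : ∀ k : G3, ((W.pG⁻¹ * k * W.pG : G3) : M3).det = (k : M3).det ∧
      ((W.pG * k * W.pG⁻¹ : G3) : M3).det = (k : M3).det := fun k => by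
    constructor <;> simp only [← GeneralLinearGroup.val_det_apply, map_mul, map_inv] <;>
      rw [mul_comm, ← mul_assoc] <;> simp
  have h01 : ∀ x y : K, σ x * x + σ y * y = 1 → ∃ k ∈ L, (k : M3).det = 1 ∧
      ∀ v, (k : M3) *ᵥ v = ![x * v 0 - σ y * v 1, y * v 0 + σ x * v 1, v 2] := fun x y h => by
    obtain ⟨k, hk, hkd, hkv⟩ := h12 x y h
    refine ⟨W.pG⁻¹ * k * W.pG, L.mul_mem (L.mul_mem (L.inv_mem hL.p) hk) hL.p, by rw [(hdp k).1, hkd], fun v => ?_⟩
    rw [Units.val_mul, Units.val_mul, ← mulVec_mulVec, ← mulVec_mulVec, pG_mulVec, hkv, pG_inv_mulVec]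
    simp
  have h20 : ∀ x y : K, σ x * x + σ y * y = 1 → ∃ k ∈ L, (k : M3).det = 1 ∧
      ∀ v, (k : M3) *ᵥ v = ![y * v 2 + σ x * v 0, v 1, x * v 2 - σ y * v 0] := fun x y h => by
    obtain ⟨k, hk, hkd, hkv⟩ := h12 x y h
    refine ⟨W.pG * k * W.pG⁻¹, L.mul_mem (L.mul_mem hL.p hk) (L.inv_mem hL.p), by rw [(hdp k).2, hkd], fun v => ?_⟩
    rw [Units.val_mul, Units.val_mul, ← mulVec_mulVec, ← mulVec_mulVec, pG_inv_mulVec, hkv, pG_mulVec]
    simp
  -- reducing a unit vector
  let P : (Fin 3 → K) → Prop := fun v => ∃ k ∈ L, (k : M3).det = 1 ∧ (k : M3) *ᵥ v = ![1, 0, 0]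
  have trans : ∀ {v w : Fin 3 → K} {k : G3}, k ∈ L → (k : M3).det = 1 → (k : M3) *ᵥ v = w → P w → P v :=
    fun {v w k} hk hkd e ⟨j, hj, hjd, ej⟩ => ⟨j * k, L.mul_mem hj hk,
      by rw [Units.val_mul, det_mul, hjd, hkd, one_mul],
      by rw [Units.val_mul, ← mulVec_mulVec, e, ej]⟩
  have hA : ∀ v : Fin 3 → K, hd σ v v = 1 → v 2 = 0 → P v := fun v hv h2 => by
    rw [hd_apply, h2, mul_zero, add_zero] at hv
    obtain ⟨k, hk, hkd, e⟩ := h01 (σ (v 0)) (-v 1) (by rw [hq.invol, map_neg]; linear_combination hv)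
    refine ⟨k, hk, hkd, ?_⟩
    rw [e, h2]
    funext i; fin_cases i
    · simp; linear_combination hv
    · simp [hq.invol]; ring
    · simp
  have hB : ∀ v : Fin 3 → K, hd σ v v = 1 → σ (v 1) * v 1 + σ (v 2) * v 2 ≠ 0 → P v := fun v hv hn => by
    obtain ⟨c, hc⟩ := hP.isConjugation.exists_norm_eq
      (show σ (σ (v 1) * v 1 + σ (v 2) * v 2) = σ (v 1) * v 1 + σ (v 2) * v 2 by
        rw [map_add, map_mul, map_mul, hq.invol, hq.invol]; ring)
    have hc0 : c ≠ 0 := fun e => hn (by rw [← hc, e, zero_mul])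
    have hσc : σ c ≠ 0 := by rwa [Ne, map_eq_zero]
    obtain ⟨k, hk, hkd, e⟩ := h12 (σ (v 1) / σ c) (-(v 2 / c)) (by
      rw [map_div₀, map_neg, map_div₀, hq.invol, hq.invol]
      field_simp
      linear_combination -hc)
    have e' := e v
    refine trans hk hkd e' (hA _ ?_ ?_)
    · rw [← e', (hL.isU _ hk).hd, hv]
    · simp [map_div₀, hq.invol]; field_simp; ring
  have hAll : ∀ v : Fin 3 → K, hd σ v v = 1 → P v := fun v hv => by
    by_cases hn : σ (v 1) * v 1 + σ (v 2) * v 2 = 0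
    swap
    · exact hB v hv hn
    by_cases h2 : v 2 = 0
    · exact hA v hv h2
    rw [hd_apply] at hv
    by_cases hv1 : σ (v 1) * v 1 = 1
    · obtain ⟨k, hk, hkd, e⟩ := h20 0 1 (by simp)
      have e' := e v
      refine trans hk hkd e' (hB _ (by rw [← e', (hL.isU _ hk).hd, hd_apply]; exact hv) ?_)
      simp
      intro h0
      exact W.two (by linear_combination h0 - hv1 - (hv - hn))
    · obtain ⟨k, hk, hkd, e⟩ := h01 0 (-1) (by simp)
      have e' := e v
      refine trans hk hkd e' (hB _ (by rw [← e', (hL.isU _ hk).hd, hd_apply]; exact hv) ?_)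
      simp
      intro h0
      exact hv1 (by linear_combination hn - h0 + (hv - hn))
  intro g hg hdet
  obtain ⟨k, hk, hkd, ek⟩ := hAll ((g : M3) *ᵥ Pi.single 0 1) (by rw [hg.hd, hd_apply]; simp)
  obtain ⟨j, rfl⟩ : ∃ j, g = k⁻¹ * j := ⟨k * g, by group⟩
  refine L.mul_mem (L.inv_mem hk) ?_
  have hju : IsU σ j := by
    have := (hL.isU _ hk).mul hg
    rwa [← mul_assoc, mul_inv_cancel, one_mul] at this
  have hjd : (j : M3).det = 1 := by
    have e : ((k * (k⁻¹ * j) : G3) : M3).det = 1 := by rw [Units.val_mul, det_mul, hkd, hdet, one_mul]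
    rwa [← mul_assoc, mul_inv_cancel, one_mul] at e
  rw [mulVec_mulVec, ← Units.val_mul, ← mul_assoc, mul_inv_cancel, one_mul] at ek
  have c := fun i => congrFun ek i
  have c0 := c 0
  have c1 := c 1
  have c2 := c 2
  simp at c0 c1 c2
  have u := fun a b => congrFun (congrFun hju a) b
  have u01 := u 0 1
  have u02 := u 0 2
  have u11 := u 1 1
  have u12 := u 1 2
  simp [adj, Matrix.mul_apply, Fin.sum_univ_three, c0, c1, c2] at u01 u02 u11 u12
  rw [u01] at u11 u12
  rw [u02] at u12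
  simp at u11 u12
  rw [det_fin_three, c0, c1, c2, u01, u02] at hjd
  simp at hjd
  have h22 : (j : M3) 2 2 = σ ((j : M3) 1 1) := by
    linear_combination σ ((j : M3) 1 1) * hjd - (j : M3) 2 2 * u11 + (j : M3) 2 1 * u12
  have h12' : (j : M3) 1 2 = -σ ((j : M3) 2 1) := by
    linear_combination -σ ((j : M3) 2 1) * hjd - (j : M3) 1 2 * u11 + (j : M3) 1 1 * u12
  refine smat_mem hP hL hr hr0 hne u11 (g := j) ?_
  ext a b; fin_cases a <;> fin_cases b <;> simp [smat, c0, c1, c2, u01, u02, h22, h12']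

/-- A transvection brings all of the special unitary group. -/
theorem full_of_root [Finite K] {r : Fin 3 → K} (hr : RootIn σ L r) (hne : r ≠ 0) : IsFull σ L := by
  classical
  haveI : Fact ((2 : K) ≠ 0) := ⟨W.two⟩
  have hq := hP.quad
  have shift : ∀ {v : Fin 3 → K}, RootIn σ L v → v ≠ 0 → (v 0 = 0 ∨ v 1 = 0 ∨ v 2 = 0) → IsFull σ L := by
    rintro v hv hv0 (h | h | h)
    · exact full_of_coord hP hL hv h hv0
    · have hm := L.inv_mem hL.p
      refine full_of_coord hP hL (hv.conj hm (hL.isU _ hm)) (by rw [pG_inv_mulVec]; simpa using h) fun e => hv0 ?_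
      rw [pG_inv_mulVec] at e
      funext i; fin_cases i
      exacts [by simpa using congrFun e 2, by simpa using congrFun e 0, by simpa using congrFun e 1]
    · refine full_of_coord hP hL (hv.conj hL.p (hL.isU _ hL.p)) (by rw [pG_mulVec]; simpa using h) fun e => hv0 ?_
      rw [pG_mulVec] at e
      funext i; fin_cases i
      exacts [by simpa using congrFun e 1, by simpa using congrFun e 2, by simpa using congrFun e 0]
  by_cases h : r 0 = 0 ∨ r 1 = 0 ∨ r 2 = 0
  · exact shift hr hne h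
  push Not at h
  obtain ⟨h0, h1, h2⟩ := h
  have hs0 : σ (r 0) ≠ 0 := by rwa [Ne, map_eq_zero]
  have hiso : σ (r 0) * r 0 + (σ (r 1) * r 1 + σ (r 2) * r 2) = 0 := by
    have := hr.1; rw [hd_apply, add_assoc] at this; exact this
  obtain ⟨n, hn⟩ : ∃ n, n = σ (r 1) * r 1 + σ (r 2) * r 2 := ⟨_, rfl⟩
  rw [← hn] at hiso
  have hn0 : n ≠ 0 := fun e => mul_ne_zero hs0 h0 (by linear_combination hiso - e)
  have hσn : σ n = n := by rw [hn, map_add, map_mul, map_mul, hq.invol, hq.invol]; ring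
  let G : K → K → M3 := fun a b => !![a, 0, 0; 0, 1 + (b - 1) / n * (r 1 * σ (r 1)), (b - 1) / n * (r 1 * σ (r 2));
    0, (b - 1) / n * (r 2 * σ (r 1)), 1 + (b - 1) / n * (r 2 * σ (r 2))]
  have hG : ∀ a b a' b', G a b * G a' b' = G (a * a') (b * b') := fun a b a' b' => by
    ext i j; fin_cases i <;> fin_cases j <;>
      simp [G, Matrix.mul_apply, Fin.sum_univ_three] <;> field_simp <;> grind
  have hG1 : G 1 1 = 1 := by
    ext i j; fin_cases i <;> fin_cases j <;> simp [G]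
  obtain ⟨t, ht, htn⟩ := hP.large
  obtain ⟨g, hg⟩ : ∃ g : G3, (g : M3) = G t (σ t) := ⟨⟨G t (σ t), G (σ t) t,
    by rw [hG, mul_comm t, ht, hG1], by rw [hG, mul_comm t, ht, hG1]⟩, rfl⟩
  have hgu : IsU σ g := by
    have e : adj σ (G t (σ t)) = G (σ t) t := by
      ext i j; fin_cases i <;> fin_cases j <;> simp [G, adj, hq.invol, hσn] <;> grind
    rw [IsU, hg, e, hG, mul_comm t, ht, hG1]
  have hw : W.ω - 1 ≠ 0 := sub_ne_zero.2 W.ne_one
  have hw' : W.ω ^ 2 - 1 ≠ 0 := sub_ne_zero.2 W.sq_ne_one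
  obtain ⟨k, hk⟩ : ∃ k, k = ((W.ω - 1) * (σ (r 0) * r 0))⁻¹ := ⟨_, rfl⟩
  have e1 : (tauG W : M3) *ᵥ r = ![W.ω * r 0, r 1, r 2] := by
    funext i; fin_cases i <;> simp [tauG, Matrix.mulVec, dotProduct, Fin.sum_univ_three]
  have hs : RootIn σ L (k • ![W.ω * r 0, r 1, r 2]) := (e1 ▸ hr.conj hL.τ (hL.isU _ hL.τ)).smul hq k
  have hrs : hd σ r (k • ![W.ω * r 0, r 1, r 2]) = 1 := by
    rw [hd_smul, hd_apply, hk]
    simp
    field_simp
    linear_combination hiso - hn
  obtain ⟨z, hz0, hz⟩ : ∃ z : K, z ≠ 0 ∧ σ z = -z :=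
    ⟨W.s, W.s_ne, by rw [Omega.s, map_sub, hP.conj, hP.sq]; ring⟩
  have hgL : g ∈ L := by
    refine plane_mem hq hz0 hz hL.isU hr hs hrs hgu (fun v v1 v2 => ?_) ?_ ?_
    · rw [hd_apply] at v1
      rw [hd_smul_left, hd_apply, mul_eq_zero] at v2
      have hk0 : σ k ≠ 0 := by
        rw [Ne, map_eq_zero, hk]; exact inv_ne_zero (mul_ne_zero hw (mul_ne_zero hs0 h0))
      replace v2 := v2.resolve_left hk0
      simp [hP.conj] at v2
      have hv0 : v 0 = 0 := (mul_eq_zero.1
        (show (W.ω ^ 2 - 1) * σ (r 0) * v 0 = 0 by linear_combination v2 - v1)).resolve_left (mul_ne_zero hw' hs0)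
      rw [hv0, mul_zero, zero_add] at v1
      rw [hg]
      funext i; fin_cases i <;> simp [G, Matrix.mulVec, dotProduct, Fin.sum_univ_three, hv0] <;>
        field_simp <;> grind
    · rw [hg, hd_smul_left, hd_apply, hk]
      simp [G, Matrix.mulVec, dotProduct, Fin.sum_univ_three, hq.invol, hP.conj, hP.sq, hσn]
      field_simp
      grind [W.cube, W.root]
    · rw [hg, hd_apply]
      simp [G, Matrix.mulVec, dotProduct, Fin.sum_univ_three, hq.invol, hσn]
      field_simp
      grind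
  -- a transvection commuting with the homology
  by_cases hno : NoTransv (blockSub L W.pG)
  swap
  · simp only [NoTransv, not_forall, not_or] at hno
    obtain ⟨v, f, hfv, hmem, hv, hf⟩ := hno
    obtain ⟨hL', -⟩ := mem_blockSub.1 hmem
    obtain ⟨b02, b12, b20, b21⟩ := block_zero hmem
    refine shift (rootIn_of_trGL hq hL.isU hfv hv hf hL') hv (.inl ?_)
    by_contra hv0
    simp [blockAt, Omega.pG, trGL, trMat, Matrix.mul_apply, Fin.sum_univ_three, vecMulVec_apply,
        Matrix.vecMul_add, Matrix.vecMul_vecMulVec, dotProduct, vecHead, vecTail, Matrix.one_apply] at b20 b21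
    have hf1 : f 1 = 0 := b20.resolve_left hv0
    have hf2 : f 2 = 0 := b21.resolve_left hv0
    simp [dotProduct, Fin.sum_univ_three, hf1, hf2, hv0] at hfv
    exact hf (by funext i; fin_cases i <;> simp [hfv, hf1, hf2])
  exfalso
  have hpB : ∀ {h : G3}, h ∈ L → (h : M3) 0 1 = 0 → (h : M3) 0 2 = 0 → (h : M3) 1 0 = 0 → (h : M3) 2 0 = 0 →
      ∃ x : blockSub (blockSub L W.pG) W.pG, x.1 = h ∧
        (toA (blockSub L W.pG) W.pG x : Matrix (Fin 2) (Fin 2) K)
          = !![(h : M3) 1 1, (h : M3) 1 2; (h : M3) 2 1, (h : M3) 2 2] := by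
    intro h hh z01 z02 z10 z20
    have e : (h : M3) * (W.pG : M3)
        = (W.pG : M3) * bl ((h : M3) 1 1) ((h : M3) 1 2) ((h : M3) 2 1) ((h : M3) 2 2) ((h : M3) 0 0) := by
      ext i j; fin_cases i <;> fin_cases j <;>
        simp [bl, Omega.pG, Matrix.mul_apply, Fin.sum_univ_three, z01, z02, z10, z20]
    obtain ⟨y, hy, -, -⟩ := mk_block (M := L) hh e
    obtain ⟨x, hx, hA, -⟩ := mk_block (M := blockSub L W.pG) (hy ▸ y.2) e
    exact ⟨x, hx, hA⟩
  obtain ⟨xd, -, hxd⟩ := hpB hL.d (by simp [Omega.dG]) (by simp [Omega.dG]) (by simp [Omega.dG])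
    (by simp [Omega.dG])
  obtain ⟨xg, hxg, hxgA⟩ := hpB hgL (by simp [hg, G]) (by simp [hg, G]) (by simp [hg, G]) (by simp [hg, G])
  have hne1 : ∀ {m : ℕ}, 0 < m → m ≤ 5 → (σ t) ^ m - 1 ≠ 0 := fun hm hm' e => htn _ hm hm' (by
    have := congrArg σ (sub_eq_zero.1 e)
    rwa [map_pow, hq.invol, map_one] at this)
  have hq12 : ∀ {b : K}, b - 1 ≠ 0 → (b - 1) / n * (r 1 * σ (r 2)) ≠ 0 := fun hb =>
    mul_ne_zero (div_ne_zero hb hn0) (mul_ne_zero h1 (by rwa [Ne, map_eq_zero]))
  have hS : GeoThree.C6.Small (toP (blockSub L W.pG) W.pG).range := by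
    refine small_of_offdiag (cases_blockSub hno) (x := xd) (y := xg) (a := W.ω) (d := W.ω ^ 2) ?_ ?_ hxgA ?_ ?_
    · rw [hxd]; simp [Omega.dG]
    · intro e
      exact W.sq_ne (by rw [e]; linear_combination W.ω * W.cube)
    · simp [hg, G]
      intro e
      refine hne1 (m := 2) (by norm_num) (by norm_num) ?_
      have hb : σ t + 1 = 0 := by
        field_simp at e
        exact (mul_eq_zero.1 (show (σ t + 1) * n = 0 by rw [hn] at e ⊢; linear_combination e)).resolve_right hn0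
      linear_combination (σ t - 1) * hb
    · simp only [hg, G]
      simpa using hq12 (by simpa using hne1 (m := 1) one_pos (by norm_num))
  have hpow : ∀ m : ℕ, ((g ^ m : G3) : M3) = G (t ^ m) (σ t ^ m) := by
    intro m
    induction m with
    | zero => simp [hG1]
    | succ m ih => rw [pow_succ, Units.val_mul, ih, hg, hG, pow_succ, pow_succ]
  have hord : ∀ m : ℕ, 0 < m → m ≤ 5 → toP (blockSub L W.pG) W.pG xg ^ m ≠ 1 := fun m hm hm' e => by
    rw [← map_pow] at e
    obtain ⟨c, hc⟩ := toP_eq_one_iff.1 e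
    obtain ⟨x', hx', hA'⟩ := hpB (L.pow_mem hgL m) (by simp [hpow, G]) (by simp [hpow, G]) (by simp [hpow, G])
      (by simp [hpow, G])
    have : x' = xg ^ m := Subtype.ext (by rw [hx', SubgroupClass.coe_pow, hxg])
    rw [← this, hA'] at hc
    have := congrFun (congrFun hc 0) 1
    simp [hpow, G] at this
    exact hq12 (hne1 hm hm') (by simpa using this)
  rcases hS.exps _ (mem_range_toP xg) with e | e | e | e
  exacts [hord 2 (by norm_num) (by norm_num) e, hord 3 (by norm_num) (by norm_num) e,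
    hord 4 (by norm_num) (by norm_num) e, hord 5 (by norm_num) (by norm_num) e]

theorem full_or_noTransv [Finite K] : IsFull σ L ∨ NoTransv L := by
  by_contra hcon
  push Not at hcon
  obtain ⟨hnf, hn⟩ := hcon
  simp only [NoTransv, not_forall, not_or] at hn
  obtain ⟨v, f, hfv, hmem, hv, hf⟩ := hn
  exact hnf (full_of_root hP hL (rootIn_of_trGL hP.quad hL.isU hfv hv hf hmem) hv)

end

end CfsgLib.Classical.QutritU
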