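import Cfsg.Agent.Lib.Classical.QutritU.Three.Pairs
import Cfsg.Agent.Lib.Classical.QutritMax.Setting

/-!
# Without transvections the Heisenberg group is normalised
-/

set_option autoImplicit false
set_option linter.unusedSectionVars false
set_option linter.unusedSimpArgs false
set_option linter.style.haveILetI false
set_option backward.isDefEq.respectTransparency false

namespace CfsgLib.Classical.QutritU

open Matrix CfsgLib.Classical CfsgLib.Classical.Clifford4 CfsgLib.Classical.GeoThree.C6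
open CfsgLib.Classical.QutritMax (Root wp wp_zero wp_one wp_two wp_add wp_ne_zero wp_injective)
open scoped MatrixGroups

variable {K : Type*} [Field K] [Finite K] {σ : K →+* K} {W : Omega K} {L : Subgroup (GL (Fin 3) K)}

local notation "M3" => Matrix (Fin 3) (Fin 3) K
local notation "G3" => GL (Fin 3) K

theorem omega_root (W : Omega K) : Root W.ω := ⟨W.root, W.three⟩

theorem cube_cases (W : Omega K) {x : K} (h : x ^ 3 = 1) : x = 1 ∨ x = W.ω ∨ x = W.ω ^ 2 := by
  have : (x - 1) * ((x - W.ω) * (x - W.ω ^ 2)) = 0 := by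
    linear_combination h + (x - x ^ 2) * W.root + (x - 1) * W.cube
  rcases mul_eq_zero.1 this with e | e
  · exact .inl (sub_eq_zero.1 e)
  rcases mul_eq_zero.1 e with e | e
  · exact .inr (.inl (sub_eq_zero.1 e))
  · exact .inr (.inr (sub_eq_zero.1 e))

/-- At least two coordinates vanish. -/
def TwoZero (v : Fin 3 → K) : Prop := (v 0 = 0 ∧ v 1 = 0) ∨ (v 0 = 0 ∧ v 2 = 0) ∨ (v 1 = 0 ∧ v 2 = 0)

theorem perm_affine : ∀ π : Fin 3 → ZMod 3, Function.Injective π →
    ∃ e k : ZMod 3, π 0 * e + k = 0 ∧ π 1 * e + k = 1 ∧ π 2 * e + k = 2 := by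
  intro π hπ
  have key : ∀ a b c : ZMod 3, a ≠ b → a ≠ c → b ≠ c →
      ∃ e k : ZMod 3, a * e + k = 0 ∧ b * e + k = 1 ∧ c * e + k = 2 := by decide
  exact key _ _ _ (hπ.ne (by decide)) (hπ.ne (by decide)) (hπ.ne (by decide))

theorem conj_d_mem {g P : G3} (hP : P ∈ W.heis) {π : Fin 3 → ZMod 3} (hπ : Function.Injective π)
    (h : (P : M3) * (g : M3) = (g : M3) * diagonal fun j => wp W.ω (π j)) : g * W.dG * g⁻¹ ∈ W.heis := by
  obtain ⟨e, k, h0, h1, h2⟩ := perm_affine π hπ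
  have hpow : ∀ n : ℕ, ((P ^ n : G3) : M3) * (g : M3) = (g : M3) * diagonal fun j => wp W.ω (π j) ^ n := by
    intro n
    induction n with
    | zero => simp
    | succ n ih =>
      rw [pow_succ, Units.val_mul, mul_assoc, h, ← mul_assoc, ih, mul_assoc, diagonal_mul_diagonal]
      simp only [pow_succ]
  have hz : ∀ n : ℕ, ((W.zG ^ n : G3) : M3) = W.ω ^ n • 1 := by
    intro n
    rw [Units.val_pow_eq_pow_val, show (W.zG : M3) = W.ω • 1 from rfl, smul_pow, one_pow]
  have hw : ∀ a : ZMod 3, wp W.ω a ^ e.val = wp W.ω (a * e) := fun a => by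
    rw [wp, wp, ← pow_mul, ZMod.val_mul, (omega_root W).pow_mod]
  have hd : (W.dG : M3) = diagonal fun j => wp W.ω (π j * e + k) := by
    ext i j
    fin_cases i <;> fin_cases j <;> simp [Omega.dG, h0, h1, h2, wp_zero, wp_one, wp_two, pow_two]
  have key : ((W.zG ^ k.val * P ^ e.val : G3) : M3) * (g : M3) = (g : M3) * (W.dG : M3) := by
    rw [Units.val_mul, hz, Matrix.smul_mul, one_mul, Matrix.smul_mul, hpow, hd, ← Matrix.mul_smul,
      ← diagonal_smul]
    congr 2
    funext j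
    rw [Pi.smul_apply, smul_eq_mul, hw, wp_add (omega_root W), mul_comm]
    rfl
  have : g * W.dG * g⁻¹ = W.zG ^ k.val * P ^ e.val := by
    rw [mul_inv_eq_iff_eq_mul]; exact Units.ext key.symm
  rw [this]
  exact mul_mem (pow_mem W.z_mem _) (pow_mem hP _)

section

variable (hP : Par σ W) (hL : Ov σ W L) (hno : NoTransv L)
include hP hL hno

theorem shift_col (g : G3) (hg : g ∈ L) : ∃ g' ∈ L, (g' : M3) 0 0 = (g : M3) 2 0 ∧
    (g' : M3) 1 0 = (g : M3) 0 0 ∧ (g' : M3) 2 0 = (g : M3) 1 0 := by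
  refine ⟨W.pG * g, L.mul_mem hL.p hg, ?_, ?_, ?_⟩ <;>
    simp [Omega.pG, Matrix.mul_apply, Fin.sum_univ_three, Matrix.vecMul, dotProduct]

theorem col_norms {g : G3} (hg : g ∈ L) : TwoZero (fun i => (g : M3) i 0) ∨
    (σ ((g : M3) 0 0) * (g : M3) 0 0 = σ ((g : M3) 1 0) * (g : M3) 1 0 ∧
      σ ((g : M3) 1 0) * (g : M3) 1 0 = σ ((g : M3) 2 0) * (g : M3) 2 0) := by
  obtain ⟨g', hg', e0, e1, e2⟩ := shift_col hP hL hno g hg
  by_cases h0 : (g : M3) 0 0 = 0
  · left
    by_contra hcon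
    simp only [TwoZero, h0, true_and] at hcon
    push Not at hcon
    obtain ⟨h1, h2, -⟩ := hcon
    obtain ⟨-, h, -⟩ := centre hP hL hno hg' (e0 ▸ h2) fun h => h1 (e2 ▸ h.2)
    exact h (e1.trans h0)
  by_cases h12 : (g : M3) 1 0 = 0 ∧ (g : M3) 2 0 = 0
  · exact .inl (.inr (.inr h12))
  obtain ⟨hn, -, h2, -⟩ := centre hP hL hno hg h0 h12
  obtain ⟨hn', -, -, -⟩ := centre hP hL hno hg' (e0 ▸ h2) fun h => h0 (e1 ▸ h.1)
  rw [e1, e2] at hn'
  exact .inr ⟨hn', hn⟩

theorem diag_three {g : G3} (hg : g ∈ L) {a b c : K} (e : (g : M3) = !![a, 0, 0; 0, b, 0; 0, 0, c]) :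
    b ^ 3 = a ^ 3 ∧ c ^ 3 = a ^ 3 := by
  have hdet : a * b * c ≠ 0 := by
    have := ((Matrix.isUnit_iff_isUnit_det _).1 g.isUnit).ne_zero
    rw [e, det_fin_three] at this
    simpa using this
  obtain ⟨ha, hb⟩ := mul_ne_zero_iff.1 (left_ne_zero_of_mul hdet)
  have hc : c ≠ 0 := right_ne_zero_of_mul hdet
  have hr3 : ((b * c / (a * a)) ^ 2) ^ 3 = 1 := by
    rw [← pow_mul, div_pow, div_eq_one_iff_eq (pow_ne_zero _ (mul_ne_zero ha ha))]
    linear_combination -(a ^ 6 + (b * c) ^ 3) * diag_six hP hL hno hg e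
  obtain ⟨r, hr⟩ : ∃ r, r = (b * c / (a * a)) ^ 2 := ⟨_, rfl⟩
  rw [← hr] at hr3
  obtain ⟨k, hk, ek⟩ : ∃ k ∈ L, (k : M3) = !![r, 0, 0; 0, 1, 0; 0, 0, 1] := by
    rcases cube_cases W hr3 with e' | e' | e'
    · exact ⟨1, L.one_mem, by ext i j; fin_cases i <;> fin_cases j <;> simp [e']⟩
    · exact ⟨tauG W, hL.τ, by rw [tau_val, e']⟩
    · refine ⟨tauG W * tauG W, L.mul_mem hL.τ hL.τ, ?_⟩
      rw [Units.val_mul, tau_val, e']
      ext i j; fin_cases i <;> fin_cases j <;> simp [Matrix.mul_apply, Fin.sum_univ_three, pow_two]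
  have hg1 := L.mul_mem hg hk
  obtain ⟨A, hA⟩ : ∃ A, A = a * r := ⟨_, rfl⟩
  have e1 : ((g * k : G3) : M3) = !![A, 0, 0; 0, b, 0; 0, 0, c] := by
    rw [Units.val_mul, e, ek, hA]
    ext i j; fin_cases i <;> fin_cases j <;> simp [Matrix.mul_apply, Fin.sum_univ_three]
  have hbc : b * c = A * A := by
    have h4 : (b * c / (a * a)) ^ 3 = 1 := by
      rw [div_pow, div_eq_one_iff_eq (pow_ne_zero _ (mul_ne_zero ha ha))]
      linear_combination -diag_six hP hL hno hg e
    have : b * c / (a * a) = r * r := by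
      rw [hr]
      linear_combination -(b * c / (a * a)) * h4
    rw [div_eq_iff (mul_ne_zero ha ha)] at this
    rw [hA]; linear_combination this
  have hA0 : A ≠ 0 := fun e0 => mul_ne_zero hb hc (by rw [hbc, e0, mul_zero])
  have hu := hL.isU _ hg1
  rw [IsU, e1] at hu
  have uA : σ A * A = 1 := by
    have := congrFun (congrFun hu 0) 0
    simpa [adj, Matrix.mul_apply, Fin.sum_univ_three] using this
  have ub : σ b * b = 1 := by
    have := congrFun (congrFun hu 1) 1
    simpa [adj, Matrix.mul_apply, Fin.sum_univ_three] using this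
  obtain ⟨η, hη⟩ : ∃ η, η = b / A := ⟨_, rfl⟩
  have hη0 : η ≠ 0 := hη ▸ div_ne_zero hb hA0
  have hση : σ η = η⁻¹ := by
    have h1 : σ A = A⁻¹ := eq_inv_of_mul_eq_one_left uA
    have h2 : σ b = b⁻¹ := eq_inv_of_mul_eq_one_left ub
    rw [hη, map_div₀, h1, h2]
    field_simp
  have hbη : b = A * η := by rw [hη]; field_simp
  have hcη : c = A * η⁻¹ := by
    refine mul_left_cancel₀ hb ?_
    rw [hbc, hbη]; field_simp
  have hη9 : η ^ 9 = 1 := by
    obtain ⟨g', hg', eg'⟩ : ∃ g' ∈ L, (g' : M3) = !![b, 0, 0; 0, c, 0; 0, 0, A] := by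
      refine ⟨W.pG⁻¹ * (g * k) * W.pG, L.mul_mem (L.mul_mem (L.inv_mem hL.p) hg1) hL.p, ?_⟩
      rw [Units.val_mul, Units.val_mul, e1]
      ext i j; fin_cases i <;> fin_cases j <;>
        simp [Omega.pG, Matrix.mul_apply, Matrix.vecMul, dotProduct, Fin.sum_univ_three]
    have h6 := diag_six hP hL hno hg' eg'
    rw [hbη, hcη] at h6
    have : A ^ 6 * η ^ 9 = A ^ 6 * 1 := by
      field_simp at h6
      linear_combination A ^ 6 * h6
    exact mul_left_cancel₀ (pow_ne_zero _ hA0) this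
  obtain ⟨c0, hc0⟩ : ∃ x, x = η + η⁻¹ := ⟨_, rfl⟩
  obtain ⟨c1, hc1⟩ : ∃ x, x = W.ω * η + W.ω ^ 2 * η⁻¹ := ⟨_, rfl⟩
  obtain ⟨c2, hc2⟩ : ∃ x, x = W.ω ^ 2 * η + W.ω * η⁻¹ := ⟨_, rfl⟩
  have s0 : σ c0 = c0 := by rw [hc0, map_add, map_inv₀, hση, inv_inv]; ring
  have s1 : σ c1 = c1 := by rw [hc1, map_add, map_mul, map_mul, map_inv₀, hση, inv_inv, hP.conj, hP.sq]; ring
  have s2 : σ c2 = c2 := by rw [hc2, map_add, map_mul, map_mul, map_inv₀, hση, inv_inv, hP.conj, hP.sq]; ring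
  obtain ⟨m, hm⟩ : ∃ m, m = A * (W.s⁻¹ * W.s⁻¹) := ⟨_, rfl⟩
  have hm0 : m ≠ 0 := hm ▸ mul_ne_zero hA0 (mul_ne_zero (inv_ne_zero W.s_ne) (inv_ne_zero W.s_ne))
  have hσm : σ m * m ≠ 0 := mul_ne_zero (by rwa [Ne, map_eq_zero]) hm0
  have hg2 := L.mul_mem (L.mul_mem hL.f hg1) hL.f
  have ev : ((W.fG * (g * k) * W.fG : G3) : M3) 0 0 = m * (1 + c0) ∧
      ((W.fG * (g * k) * W.fG : G3) : M3) 1 0 = m * (1 + c1) ∧
      ((W.fG * (g * k) * W.fG : G3) : M3) 2 0 = m * (1 + c2) := by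
    rw [Units.val_mul, Units.val_mul, e1, hbη, hcη, hc0, hc1, hc2, hm]
    refine ⟨?_, ?_, ?_⟩ <;> simp [Omega.fG, Matrix.mul_apply, Fin.sum_univ_three] <;> ring
  have heq : c0 = c1 ∨ c0 = c2 ∨ c1 = c2 := by
    rcases col_norms hP hL hno hg2 with h | ⟨h1, h2⟩
    · simp only [TwoZero, ev.1, ev.2.1, ev.2.2, mul_eq_zero, hm0, false_or] at h
      rcases h with ⟨x, y⟩ | ⟨x, y⟩ | ⟨x, y⟩
      · exact .inl (by linear_combination x - y)
      · exact .inr (.inl (by linear_combination x - y))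
      · exact .inr (.inr (by linear_combination x - y))
    · rw [ev.1, ev.2.1, map_mul, map_mul, map_add, map_add, map_one, s0, s1] at h1
      rw [ev.2.1, ev.2.2, map_mul, map_mul, map_add, map_add, map_one, s1, s2] at h2
      have k1 : (c0 - c1) * (2 + c0 + c1) = 0 :=
        (mul_eq_zero.1 (show σ m * m * ((c0 - c1) * (2 + c0 + c1)) = 0 by linear_combination h1)).resolve_left hσm
      have k2 : (c1 - c2) * (2 + c1 + c2) = 0 :=
        (mul_eq_zero.1 (show σ m * m * ((c1 - c2) * (2 + c1 + c2)) = 0 by linear_combination h2)).resolve_left hσm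
      rcases mul_eq_zero.1 k1 with x | x
      · exact .inl (sub_eq_zero.1 x)
      rcases mul_eq_zero.1 k2 with y | y
      · exact .inr (.inr (sub_eq_zero.1 y))
      · exact .inr (.inl (by linear_combination x - y))
  have hη6 : η ^ 6 = 1 := by
    have w1 : W.ω - 1 ≠ 0 := sub_ne_zero.2 W.ne_one
    have w2 : W.ω ^ 2 - 1 ≠ 0 := sub_ne_zero.2 W.sq_ne_one
    have w3 : W.ω ^ 2 - W.ω ≠ 0 := sub_ne_zero.2 W.sq_ne
    have hcube := W.cube
    rcases heq with h | h | h
    · rw [hc0, hc1] at h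
      field_simp at h
      have : η ^ 2 = W.ω ^ 2 := (sub_eq_zero.1 ((mul_eq_zero.1 (show (W.ω - 1) * (η ^ 2 - W.ω ^ 2) = 0 by
        linear_combination -h - hcube)).resolve_left w1))
      rw [show η ^ 6 = (η ^ 2) ^ 3 by ring, this]
      linear_combination (W.ω ^ 3 + 1) * hcube
    · rw [hc0, hc2] at h
      field_simp at h
      have : η ^ 2 = W.ω := (sub_eq_zero.1 ((mul_eq_zero.1 (show (W.ω ^ 2 - 1) * (η ^ 2 - W.ω) = 0 by
        linear_combination -h - hcube)).resolve_left w2))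
      rw [show η ^ 6 = (η ^ 2) ^ 3 by ring, this, hcube]
    · rw [hc1, hc2] at h
      field_simp at h
      have : η ^ 2 = 1 := (sub_eq_zero.1 ((mul_eq_zero.1 (show (W.ω ^ 2 - W.ω) * (η ^ 2 - 1) = 0 by
        linear_combination -h)).resolve_left w3))
      rw [show η ^ 6 = (η ^ 2) ^ 3 by ring, this, one_pow]
  have hη3 : η ^ 3 = 1 := by
    rw [show η ^ 9 = η ^ 6 * η ^ 3 by ring, hη6, one_mul] at hη9
    exact hη9
  have hA3 : A ^ 3 = a ^ 3 := by rw [hA, mul_pow, hr3, mul_one]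
  refine ⟨?_, ?_⟩
  · rw [hbη, mul_pow, hη3, hA3, mul_one]
  · rw [hcη, mul_pow, inv_pow, hη3, hA3, inv_one, mul_one]

theorem col_cubes {g : G3} (hg : g ∈ L) : TwoZero (fun i => (g : M3) i 0) ∨
    ((g : M3) 0 0 ≠ 0 ∧ (g : M3) 1 0 ^ 3 = (g : M3) 0 0 ^ 3 ∧ (g : M3) 2 0 ^ 3 = (g : M3) 0 0 ^ 3) := by
  by_cases htz : TwoZero (fun i => (g : M3) i 0)
  · exact .inl htz
  right
  have hn := (col_norms hP hL hno hg).resolve_left htz
  have h0 : (g : M3) 0 0 ≠ 0 := fun e => htz (.inl ⟨e, by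
    have := hn.1; rw [e, mul_zero, eq_comm, mul_eq_zero] at this
    exact this.elim (fun h => (map_eq_zero σ).1 h) id⟩)
  obtain ⟨-, h1, h2, k, hk, ek⟩ := centre hP hL hno hg h0 fun h => htz (.inr (.inr h))
  obtain ⟨g', hg', e0, e1, e2⟩ := shift_col hP hL hno g hg
  obtain ⟨-, -, -, k', hk', ek'⟩ := centre hP hL hno hg' (e0 ▸ h2) fun h => h0 (e1 ▸ h.1)
  rw [e1, e2] at ek'
  obtain ⟨d1, -⟩ := diag_three hP hL hno hk ek
  obtain ⟨d2, -⟩ := diag_three hP hL hno hk' ek'
  rw [div_pow, one_pow, div_eq_one_iff_eq (pow_ne_zero _ h2)] at d1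
  rw [div_pow, one_pow, div_eq_one_iff_eq (pow_ne_zero _ h1)] at d2
  exact ⟨h0, d2.symm, d1.symm.trans d2.symm⟩

theorem conj_d_mem_heis {g : G3} (hg : g ∈ L) : g * W.dG * g⁻¹ ∈ W.heis := by
  classical
  have hr := omega_root W
  have hu := hL.isU g hg
  have orth : ∀ i j, i ≠ j → σ ((g : M3) 0 i) * (g : M3) 0 j + σ ((g : M3) 1 i) * (g : M3) 1 j
      + σ ((g : M3) 2 i) * (g : M3) 2 j = 0 := fun i j hij => by
    have := congrFun (congrFun hu i) j
    simpa [adj, Matrix.mul_apply, Fin.sum_univ_three, Matrix.one_apply, hij] using this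
  have self : ∀ i, ¬((g : M3) 0 i = 0 ∧ (g : M3) 1 i = 0 ∧ (g : M3) 2 i = 0) := fun i ⟨a, b, c⟩ => by
    have := congrFun (congrFun hu i) i
    simp [adj, Matrix.mul_apply, Fin.sum_univ_three, a, b, c] at this
  have cols : ∀ j, TwoZero (fun i => (g : M3) i j) ∨
      ((g : M3) 0 j ≠ 0 ∧ (g : M3) 1 j ^ 3 = (g : M3) 0 j ^ 3 ∧ (g : M3) 2 j ^ 3 = (g : M3) 0 j ^ 3) := by
    intro j
    obtain ⟨g', hg', e⟩ : ∃ g' ∈ L, ∀ i, (g' : M3) i 0 = (g : M3) i j := by
      fin_cases j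
      · exact ⟨g, hg, fun i => rfl⟩
      · exact ⟨g * W.pG, L.mul_mem hg hL.p, fun i => by simp [Omega.pG, Matrix.mul_apply, Fin.sum_univ_three]⟩
      · exact ⟨g * W.pG * W.pG, L.mul_mem (L.mul_mem hg hL.p) hL.p, fun i => by
          simp [Omega.pG, Matrix.mul_apply, Matrix.vecMul, dotProduct, Fin.sum_univ_three]⟩
    have := col_cubes hP hL hno hg'
    simpa only [TwoZero, e] using this
  -- flat and monomial columns cannot be mixed
  have mixed : ∀ i j, TwoZero (fun a => (g : M3) a i) →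
      ((g : M3) 0 j ≠ 0 ∧ (g : M3) 1 j ^ 3 = (g : M3) 0 j ^ 3 ∧ (g : M3) 2 j ^ 3 = (g : M3) 0 j ^ 3) →
      i = j := by
    intro i j hi ⟨h0, h1, h2⟩
    have n1 : (g : M3) 1 j ≠ 0 := fun e => h0 ((pow_eq_zero_iff three_ne_zero).1 (by simpa [e] using h1.symm))
    have n2 : (g : M3) 2 j ≠ 0 := fun e => h0 ((pow_eq_zero_iff three_ne_zero).1 (by simpa [e] using h2.symm))
    by_contra hij
    have o := orth i j hij
    rcases hi with ⟨x, y⟩ | ⟨x, y⟩ | ⟨x, y⟩ <;> simp only at x y <;> simp [x, y, h0, n1, n2] at o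
    · exact self i ⟨x, y, o⟩
    · exact self i ⟨x, o, y⟩
    · exact self i ⟨o, x, y⟩
  by_cases hmono : ∀ j, TwoZero (fun a => (g : M3) a j)
  · -- monomial
    have hex : ∀ j, ∃ r : Fin 3, (g : M3) r j ≠ 0 ∧ ∀ a, a ≠ r → (g : M3) a j = 0 := by
      intro j
      have c3 : ∀ a : Fin 3, a = 0 ∨ a = 1 ∨ a = 2 := by decide
      rcases hmono j with ⟨x, y⟩ | ⟨x, y⟩ | ⟨x, y⟩
      · refine ⟨2, fun e => self j ⟨x, y, e⟩, fun a ha => ?_⟩
        rcases c3 a with rfl | rfl | rfl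
        exacts [x, y, absurd rfl ha]
      · refine ⟨1, fun e => self j ⟨x, e, y⟩, fun a ha => ?_⟩
        rcases c3 a with rfl | rfl | rfl
        exacts [x, absurd rfl ha, y]
      · refine ⟨0, fun e => self j ⟨e, x, y⟩, fun a ha => ?_⟩
        rcases c3 a with rfl | rfl | rfl
        exacts [absurd rfl ha, x, y]
    choose π hπ0 hπ using hex
    have hinj : Function.Injective π := fun i j hij => by
      by_contra hne
      have o := orth i j hne
      have o' : σ ((g : M3) (π i) i) * (g : M3) (π i) j = 0 := by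
        rw [← Fin.sum_univ_three (fun a => σ ((g : M3) a i) * (g : M3) a j)] at o
        rwa [Finset.sum_eq_single (π i) (fun a _ ha => by rw [hπ i a ha, map_zero, zero_mul])
          (fun h => absurd (Finset.mem_univ _) h)] at o
      rw [hij] at o'
      exact mul_ne_zero (by rw [Ne, map_eq_zero, ← hij]; exact hπ0 i) (hπ0 j) o'
    refine conj_d_mem (P := W.dG) W.d_mem (π := fun j => ((π j : ℕ) : ZMod 3))
      (fun i j h => hinj (Fin.ext (by
        have := congrArg ZMod.val h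
        rwa [ZMod.val_natCast, ZMod.val_natCast, Nat.mod_eq_of_lt (π i).2, Nat.mod_eq_of_lt (π j).2] at this))) ?_
    have hd : (W.dG : M3) = diagonal fun i : Fin 3 => wp W.ω ((i : ℕ) : ZMod 3) := by
      ext i j
      fin_cases i <;> fin_cases j <;> simp [Omega.dG, wp_zero, wp_one, wp_two, pow_two]
    ext i j
    rw [hd, diagonal_mul, mul_diagonal]
    by_cases hi : i = π j
    · rw [hi, mul_comm]
    · rw [hπ j i hi, zero_mul, mul_zero]
  · push Not at hmono
    obtain ⟨j0, hj0⟩ := hmono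
    have flat : ∀ j, ∃ x y : ZMod 3, (g : M3) 0 j ≠ 0 ∧ (g : M3) 1 j = wp W.ω x * (g : M3) 0 j ∧
        (g : M3) 2 j = wp W.ω y * (g : M3) 0 j := by
      intro j
      have hj : ¬ TwoZero (fun a => (g : M3) a j) := fun h =>
        hj0 (mixed j j0 h ((cols j0).resolve_left hj0) ▸ h)
      obtain ⟨h0, h1, h2⟩ := (cols j).resolve_left hj
      have root : ∀ {v : K}, v ^ 3 = (g : M3) 0 j ^ 3 → ∃ x : ZMod 3, v = wp W.ω x * (g : M3) 0 j := fun {v} hv => by
        rcases cube_cases W (show (v / (g : M3) 0 j) ^ 3 = 1 by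
          rw [div_pow, hv, div_self (pow_ne_zero _ h0)]) with e | e | e <;>
          rw [div_eq_iff h0] at e
        exacts [⟨0, by rw [wp_zero]; exact e⟩, ⟨1, by rw [wp_one]; exact e⟩,
          ⟨2, by rw [wp_two, ← pow_two]; exact e⟩]
      obtain ⟨x, hx⟩ := root h1
      obtain ⟨y, hy⟩ := root h2
      exact ⟨x, y, h0, hx, hy⟩
    choose x y h0 hx hy using flat
    have hsigma : ∀ a : ZMod 3, σ (wp W.ω a) = wp W.ω (-a) := fun a => by
      rcases QutritMax.zmod3_cases a with rfl | rfl | rfl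
      · simp [wp_zero]
      · rw [wp_one, hP.conj, show (-1 : ZMod 3) = 2 by decide, wp_two, pow_two]
      · rw [wp_two, ← pow_two, hP.sq, show (-2 : ZMod 3) = 1 by decide, wp_one]
    have hval : ∀ a b : ZMod 3, 1 + wp W.ω a + wp W.ω b = 0 → a ≠ 0 ∧ b = -a := by
      have w := W.root
      intro a b hab
      rcases QutritMax.zmod3_cases a with rfl | rfl | rfl <;> rcases QutritMax.zmod3_cases b with rfl | rfl | rfl <;>
        simp only [wp_zero, wp_one, wp_two] at hab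
      · exact absurd (show (3 : K) = 0 by linear_combination hab) W.three
      · exact absurd (show W.s = 0 by rw [Omega.s]; grind [W.three]) W.s_ne
      · exact absurd (show W.s = 0 by rw [Omega.s]; grind [W.three]) W.s_ne
      · exact absurd (show W.s = 0 by rw [Omega.s]; grind [W.three]) W.s_ne
      · exact absurd (show W.s = 0 by rw [Omega.s]; grind [W.three]) W.s_ne
      · decide
      · exact absurd (show W.s = 0 by rw [Omega.s]; grind [W.three]) W.s_ne
      · decide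
      · exact absurd (show W.s = 0 by rw [Omega.s]; grind [W.three]) W.s_ne
    have hxy : ∀ i j, i ≠ j → x j - x i ≠ 0 ∧ y j - y i = -(x j - x i) := fun i j hij => by
      refine hval _ _ ?_
      have o := orth i j hij
      rw [hx i, hx j, hy i, hy j, map_mul, map_mul, hsigma, hsigma] at o
      refine (mul_eq_zero.1 (show σ ((g : M3) 0 i) * (g : M3) 0 j *
        (1 + wp W.ω (x j - x i) + wp W.ω (y j - y i)) = 0 from ?_)).resolve_left
          (mul_ne_zero (by rw [Ne, map_eq_zero]; exact h0 i) (h0 j))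
      rw [sub_eq_add_neg, sub_eq_add_neg, wp_add hr, wp_add hr]
      linear_combination o
    obtain ⟨m, hm⟩ : ∃ m, m = x 0 + y 0 := ⟨_, rfl⟩
    have hy' : ∀ j, y j = m - x j := fun j => by
      by_cases h : (0 : Fin 3) = j
      · subst h; rw [hm]; ring
      · rw [hm]; linear_combination (hxy 0 j h).2
    refine conj_d_mem (P := W.pG * W.dG ^ m.val) (mul_mem W.p_mem (pow_mem W.d_mem _)) (π := fun j => -x j)
      (fun i j h => by
        by_contra hne
        exact (hxy i j hne).1 (by rw [neg_inj.1 h, sub_self])) ?_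
    have hd : ((W.dG ^ m.val : G3) : M3) = diagonal ![1, wp W.ω m, wp W.ω (2 * m)] := by
      have hd1 : (W.dG : M3) = diagonal ![1, W.ω, W.ω ^ 2] := by
        ext a b; fin_cases a <;> fin_cases b <;> simp [Omega.dG]
      rw [Units.val_pow_eq_pow_val, hd1, diagonal_pow]
      congr 1
      funext a
      fin_cases a
      · simp
      · simp [wp]
      · simp only [Pi.pow_apply]
        simp [wp, ← pow_mul, ZMod.val_mul, hr.pow_mod, show ZMod.val (2 : ZMod 3) = 2 from rfl]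
    have row : ∀ j, ((W.dG ^ m.val : G3) : M3) 2 2 * (g : M3) 2 j = wp W.ω (-x j) * (g : M3) 0 j ∧
        ((W.dG ^ m.val : G3) : M3) 0 0 * (g : M3) 0 j = wp W.ω (-x j) * (g : M3) 1 j ∧
        ((W.dG ^ m.val : G3) : M3) 1 1 * (g : M3) 1 j = wp W.ω (-x j) * (g : M3) 2 j := fun j => by
      rw [hd, hx j, hy j, hy' j]
      simp only [diagonal_apply_eq, Matrix.cons_val, ← mul_assoc, ← wp_add hr, one_mul]
      refine ⟨?_, ?_, ?_⟩
      · congr 2
        have h3 : (3 : ZMod 3) = 0 := by decide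
        linear_combination m * h3
      · rw [neg_add_cancel, wp_zero, one_mul]
      · congr 2
        have h3 : (3 : ZMod 3) = 0 := by decide
        linear_combination x j * h3
    rw [Units.val_mul, mul_assoc]
    ext i j
    rw [Matrix.mul_diagonal, mul_comm ((g : M3) i j)]
    obtain ⟨r0, r1, r2⟩ := row j
    have offd : ∀ a b : Fin 3, a ≠ b → ((W.dG ^ m.val : G3) : M3) a b = 0 := fun a b h => by
      rw [hd, diagonal_apply_ne _ h]
    generalize ((W.dG ^ m.val : G3) : M3) = D at r0 r1 r2 offd ⊢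
    fin_cases i <;>
      simp [Omega.pG, Matrix.mul_apply, Fin.sum_univ_three, offd 0 1 (by decide), offd 0 2 (by decide),
        offd 1 0 (by decide), offd 1 2 (by decide), offd 2 0 (by decide), offd 2 1 (by decide), r0, r1, r2]

theorem normalizes : ∀ g ∈ L, ∀ h ∈ W.heis, g * h * g⁻¹ ∈ W.heis := by
  intro g hg h hh
  induction hh using Subgroup.closure_induction with
  | mem x hx =>
    rcases hx with rfl | rfl
    · exact conj_d_mem_heis hP hL hno hg
    · have e : g * W.pG * g⁻¹ = (g * W.fG⁻¹) * W.dG * (g * W.fG⁻¹)⁻¹ := by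
        rw [show W.pG = W.fG⁻¹ * W.dG * W.fG by
          rw [mul_assoc, ← W.fG_conj_p, inv_mul_cancel_left]]
        group
      rw [e]
      exact conj_d_mem_heis hP hL hno (L.mul_mem hg (L.inv_mem hL.f))
  | one => simp
  | mul x y _ _ hx hy => simpa [mul_assoc] using mul_mem hx hy
  | inv x _ hx => simpa [mul_assoc] using inv_mem hx

end

/-- A unitary group of degree three containing the normaliser generators is big or normalises. -/
theorem full_or_normalizes (hP : Par σ W) (hL : Ov σ W L) :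
    IsFull σ L ∨ ∀ g ∈ L, ∀ h ∈ W.heis, g * h * g⁻¹ ∈ W.heis :=
  (full_or_noTransv hP hL).imp_right fun hno => normalizes hP hL hno

end CfsgLib.Classical.QutritU
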