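import Cfsg.Agent.Lib.Classical.QutritU.Three.Full

/-!
# Pairs of homologies without transvections
-/

set_option autoImplicit false
set_option linter.unusedSectionVars false
set_option linter.unusedSimpArgs false
set_option linter.style.haveILetI false
set_option backward.isDefEq.respectTransparency false

namespace CfsgLib.Classical.QutritU

open Matrix CfsgLib.Classical CfsgLib.Classical.Clifford4 CfsgLib.Classical.GeoThree.C6
open scoped MatrixGroups

variable {K : Type*} [Field K] [Finite K] {σ : K →+* K} {W : Omega K} {L : Subgroup (GL (Fin 3) K)}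

local notation "M3" => Matrix (Fin 3) (Fin 3) K
local notation "G3" => GL (Fin 3) K

theorem z0_entries : ((z0 : G3) : M3) = !![-1, 0, 0; 0, -1, 0; 0, 0, 1] := rfl

theorem sG_mem (hL : Ov σ W L) : W.sG ∈ L := by
  rw [← W.fG_sq]; exact L.mul_mem hL.f hL.f

theorem h0_val : ((W.pG * z0 * W.pG⁻¹ : G3) : M3) = !![1, 0, 0; 0, -1, 0; 0, 0, -1] := by
  ext i j; fin_cases i <;> fin_cases j <;>
    simp [Omega.pG, z0, zMat, Matrix.mul_apply, Fin.sum_univ_three]

theorem tau_val : ((tauG W : G3) : M3) = !![W.ω, 0, 0; 0, 1, 0; 0, 0, 1] := rfl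

theorem tau_bG : (tauG W : M3) * (W.bG : M3) = (W.bG : M3) * bl W.ω 0 0 1 1 := by
  ext i j; fin_cases i <;> fin_cases j <;> simp [tauG, Omega.bG, bl, Matrix.mul_apply, Fin.sum_univ_three]

section

variable (hP : Par σ W) (hL : Ov σ W L) (hno : NoTransv L)
include hP hL hno

theorem small_bG [Fact ((2 : K) ≠ 0)] : GeoThree.C6.Small (toP L W.bG).range := by
  have hs := W.s_ne
  have hτ : ∃ x : blockSub L W.bG, x.1 = tauG W ∧
      (toA L W.bG x : Matrix (Fin 2) (Fin 2) K) = !![W.ω, 0; 0, 1] ∧ toC L W.bG x = 1 := mk_block hL.τ tau_bG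
  obtain ⟨x, -, hxA, -⟩ := hτ
  obtain ⟨y, -, hyA, -⟩ := mk_block (M := L) (B := W.bG) hL.f
    (a := W.s⁻¹) (b := 2 * W.s⁻¹) (c := W.s⁻¹) (d := -W.s⁻¹) (e := 1) (by
      ext i j; fin_cases i <;> fin_cases j <;>
        simp [Omega.fG, Omega.bG, bl, Matrix.mul_apply, Fin.sum_univ_three] <;> field_simp <;>
        grind [Omega.s, W.root])
  refine small_of_offdiag (cases_blockSub hno) (x := x) (y := y * x * y) (a := W.ω) (d := 1)
    (p := (W.ω + 2) / (W.s * W.s)) (q := (2 * W.ω - 2) / (W.s * W.s)) (r := (W.ω - 1) / (W.s * W.s))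
    (s := (2 * W.ω + 1) / (W.s * W.s)) hxA (by simpa using W.sq_ne_one) ?_ ?_ ?_
  · rw [map_mul, map_mul, Units.val_mul, Units.val_mul, hxA, hyA]
    ext i j; fin_cases i <;> fin_cases j <;> simp [Matrix.mul_apply, Fin.sum_univ_two] <;> field_simp <;> ring
  · rw [← add_div]
    refine div_ne_zero (fun e => ?_) (mul_ne_zero hs hs)
    refine W.sq_ne_one ((mul_right_inj' W.three).1 ?_)
    linear_combination (W.ω - 1) * e
  · refine div_ne_zero (fun e => ?_) (mul_ne_zero hs hs)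
    refine W.ne_one ((mul_right_inj' W.two).1 ?_)
    linear_combination e

theorem h0_not_mem : W.pG * z0 * W.pG⁻¹ ∉ L := by
  haveI : Fact ((2 : K) ≠ 0) := ⟨W.two⟩
  intro hh
  obtain ⟨x, -, hx, -⟩ := mk_block (M := L) (B := W.bG) (L.mul_mem hh hL.τ)
    (a := W.ω) (b := 0) (c := 0) (d := -1) (e := -1) (by
      rw [Units.val_mul, h0_val, tau_val]
      ext i j; fin_cases i <;> fin_cases j <;> simp [Omega.bG, bl, Matrix.mul_apply, Fin.sum_univ_three])
  rcases (small_bG hP hL hno).exps _ (mem_range_toP x) with e | e | e | e <;> have e' := diag_pow_eq hx e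
  · exact W.sq_ne_one (by linear_combination e')
  · exact W.two (by linear_combination e' - W.cube)
  · exact W.ne_one (by linear_combination e' - W.ω * W.cube)
  · exact W.ne_one (by linear_combination (W.ω ^ 5 - 1) * e' - W.ω * (W.ω ^ 6 + W.ω ^ 3 + 1) * W.cube)

/-- The centraliser of the homology is monomial. -/
theorem mono {g : G3} (hg : g ∈ L) (h01 : (g : M3) 0 1 = 0) (h02 : (g : M3) 0 2 = 0) (h10 : (g : M3) 1 0 = 0)
    (h20 : (g : M3) 2 0 = 0) :
    ((g : M3) 1 2 = 0 ∧ (g : M3) 2 1 = 0) ∨ ((g : M3) 1 1 = 0 ∧ (g : M3) 2 2 = 0) := by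
  haveI : Fact ((2 : K) ≠ 0) := ⟨W.two⟩
  have hD : Dihedralish (toP L W.pG).range := by
    refine (cases_blockSub hno).resolve_right fun hS => h0_not_mem hP hL hno ?_
    exact klein_neg hS
  have hb : ∀ {h : G3}, h ∈ L → (h : M3) 0 1 = 0 → (h : M3) 0 2 = 0 → (h : M3) 1 0 = 0 → (h : M3) 2 0 = 0 →
      ∃ x : blockSub L W.pG, (toA L W.pG x : Matrix (Fin 2) (Fin 2) K)
          = !![(h : M3) 1 1, (h : M3) 1 2; (h : M3) 2 1, (h : M3) 2 2] := by
    intro h hh z01 z02 z10 z20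
    obtain ⟨x, -, hA, -⟩ := mk_block (M := L) (B := W.pG) hh
      (a := (h : M3) 1 1) (b := (h : M3) 1 2) (c := (h : M3) 2 1) (d := (h : M3) 2 2) (e := (h : M3) 0 0) (by
        ext i j; fin_cases i <;> fin_cases j <;>
          simp [bl, Omega.pG, Matrix.mul_apply, Fin.sum_univ_three, z01, z02, z10, z20])
    exact ⟨x, hA⟩
  obtain ⟨x, hx⟩ := hb hL.d (by simp [Omega.dG]) (by simp [Omega.dG]) (by simp [Omega.dG]) (by simp [Omega.dG])
  have hx' : (toA L W.pG x : Matrix (Fin 2) (Fin 2) K) = !![W.ω, 0; 0, W.ω ^ 2] := by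
    rw [hx]; simp [Omega.dG]
  have hw : W.ω ^ 2 ≠ (W.ω ^ 2) ^ 2 := fun e => W.sq_ne (by rw [e]; linear_combination W.ω * W.cube)
  by_contra hcon
  obtain ⟨y, hy⟩ := hb hg h01 h02 h10 h20
  by_cases hps : (g : M3) 1 1 + (g : M3) 2 2 = 0
  · have hp : (g : M3) 1 1 ≠ 0 := fun e => hcon (.inr ⟨e, by rw [e, zero_add] at hps; exact hps⟩)
    have := dih_offdiag hD hx' hw (y := y * x) (p := (g : M3) 1 1 * W.ω) (q := (g : M3) 1 2 * W.ω ^ 2)
      (r := (g : M3) 2 1 * W.ω) (s := (g : M3) 2 2 * W.ω ^ 2) (by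
        rw [map_mul, Units.val_mul, hy, hx']
        ext i j; fin_cases i <;> fin_cases j <;> simp [Matrix.mul_apply, Fin.sum_univ_two])
      (fun e => mul_ne_zero hp W.s_ne (by rw [Omega.s]; linear_combination e - W.ω ^ 2 * hps))
    simp [W.ne_zero] at this
    exact hcon (.inl this)
  · exact hcon (.inl (dih_offdiag hD hx' hw hy hps))

/-- Diagonal elements, up to exponent nine. -/
theorem diag_six {g : G3} (hg : g ∈ L) {a b c : K} (e : (g : M3) = !![a, 0, 0; 0, b, 0; 0, 0, c]) :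
    a ^ 6 = (b * c) ^ 3 := by
  haveI : Fact ((2 : K) ≠ 0) := ⟨W.two⟩
  have hdet : a * b * c ≠ 0 := by
    have := ((Matrix.isUnit_iff_isUnit_det _).1 g.isUnit).ne_zero
    rw [e, det_fin_three] at this
    simpa using this
  have hk := L.mul_mem hg (L.mul_mem (L.mul_mem (sG_mem hL) hg) (sG_mem hL))
  have ek : ((g * (W.sG * g * W.sG) : G3) : M3) = !![a * a, 0, 0; 0, b * c, 0; 0, 0, b * c] := by
    rw [Units.val_mul, Units.val_mul, Units.val_mul, e]
    ext i j; fin_cases i <;> fin_cases j <;> simp [Omega.sG, Matrix.mul_apply, Fin.sum_univ_three] <;> ring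
  obtain ⟨x, -, hx, -⟩ := mk_block (M := L) (B := W.bG) hk
    (a := a * a) (b := 0) (c := 0) (d := b * c) (e := b * c) (by
      rw [ek]
      ext i j; fin_cases i <;> fin_cases j <;> simp [Omega.bG, bl, Matrix.mul_apply, Fin.sum_univ_three])
  obtain ⟨y, -, hy, -⟩ := mk_block (M := L) (B := W.bG) (L.mul_mem hk hL.τ)
    (a := a * a * W.ω) (b := 0) (c := 0) (d := b * c) (e := b * c) (by
      rw [Units.val_mul, ek, tau_val]
      ext i j; fin_cases i <;> fin_cases j <;> simp [Omega.bG, bl, Matrix.mul_apply, Fin.sum_univ_three])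
  have h1 := diag_pow_eq (n := 3) hx
  have h2 := diag_pow_eq (n := 3) hy
  have hgood : (a * a) ^ 3 = (b * c) ^ 3 → a ^ 6 = (b * c) ^ 3 := fun h => by rw [← h]; ring
  have hgood' : (a * a * W.ω) ^ 3 = (b * c) ^ 3 → a ^ 6 = (b * c) ^ 3 := fun h => by
    rw [← h, mul_pow (a * a), W.cube]; ring
  have hS := small_bG hP hL hno
  have twenty : ∀ {z : blockSub L W.bG}, (toP L W.bG z ^ 3 ≠ 1) → toP L W.bG z ^ 20 = 1 := fun {z} h3 => by
    rcases hS.exps _ (mem_range_toP z) with h | h | h | h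
    · rw [show (20 : ℕ) = 2 * 10 from rfl, pow_mul, h, one_pow]
    · exact absurd h h3
    · rw [show (20 : ℕ) = 4 * 5 from rfl, pow_mul, h, one_pow]
    · rw [show (20 : ℕ) = 5 * 4 from rfl, pow_mul, h, one_pow]
  by_cases hx3 : toP L W.bG x ^ 3 = 1
  · exact hgood (h1 hx3)
  by_cases hy3 : toP L W.bG y ^ 3 = 1
  · exact hgood' (h2 hy3)
  exfalso
  have e1 := diag_pow_eq hx (twenty hx3)
  have e2 := diag_pow_eq hy (twenty hy3)
  rw [mul_pow, e1] at e2
  have hbc : (b * c) ^ 20 ≠ 0 := pow_ne_zero _ (mul_ne_zero (right_ne_zero_of_mul (left_ne_zero_of_mul hdet))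
    (right_ne_zero_of_mul hdet))
  have e3 : W.ω ^ 20 = 1 := mul_left_cancel₀ hbc (by rw [e2, mul_one])
  rw [show (20 : ℕ) = 3 * 6 + 2 from rfl, pow_add, pow_mul, W.cube, one_pow, one_mul] at e3
  exact W.sq_ne_one e3

/-- The centre of a conjugate of the homology. -/
theorem centre {g : G3} (hg : g ∈ L) (h0 : (g : M3) 0 0 ≠ 0) (h12 : ¬((g : M3) 1 0 = 0 ∧ (g : M3) 2 0 = 0)) :
    σ ((g : M3) 1 0) * (g : M3) 1 0 = σ ((g : M3) 2 0) * (g : M3) 2 0 ∧ (g : M3) 1 0 ≠ 0 ∧ (g : M3) 2 0 ≠ 0 ∧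
      ∃ k ∈ L, (k : M3) = !![1, 0, 0; 0, (g : M3) 1 0 / (g : M3) 2 0, 0; 0, 0, (g : M3) 2 0 / (g : M3) 1 0] := by
  haveI : Fact ((2 : K) ≠ 0) := ⟨W.two⟩
  classical
  have hq := hP.quad
  obtain ⟨c0, hc0⟩ : ∃ x, x = (g : M3) 0 0 := ⟨_, rfl⟩
  obtain ⟨c1, hc1⟩ : ∃ x, x = (g : M3) 1 0 := ⟨_, rfl⟩
  obtain ⟨c2, hc2⟩ : ∃ x, x = (g : M3) 2 0 := ⟨_, rfl⟩
  rw [← hc1, ← hc2] at h12 ⊢
  rw [← hc0] at h0
  have hu := hL.isU g hg
  have hunit : σ c0 * c0 + (σ c1 * c1 + σ c2 * c2) = 1 := by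
    have := congrFun (congrFun hu 0) 0
    simp [adj, Matrix.mul_apply, Fin.sum_univ_three, ← hc0, ← hc1, ← hc2] at this
    linear_combination this
  obtain ⟨n, hn⟩ : ∃ n, n = σ c1 * c1 + σ c2 * c2 := ⟨_, rfl⟩
  rw [← hn] at hunit
  -- the conjugate homology
  obtain ⟨T, hT⟩ : ∃ T : G3, T = g * tauG W * g⁻¹ := ⟨_, rfl⟩
  have hTL : T ∈ L := hT ▸ L.mul_mem (L.mul_mem hg hL.τ) (L.inv_mem hg)
  obtain ⟨δ, hδ⟩ : ∃ δ : K, δ = W.ω - 1 := ⟨_, rfl⟩
  have hTv : (T : M3) = !![1 + δ * (c0 * σ c0), δ * (c0 * σ c1), δ * (c0 * σ c2);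
      δ * (c1 * σ c0), 1 + δ * (c1 * σ c1), δ * (c1 * σ c2);
      δ * (c2 * σ c0), δ * (c2 * σ c1), 1 + δ * (c2 * σ c2)] := by
    obtain ⟨N, hN⟩ : ∃ N : M3, N = !![1 + δ * (c0 * σ c0), δ * (c0 * σ c1), δ * (c0 * σ c2);
      δ * (c1 * σ c0), 1 + δ * (c1 * σ c1), δ * (c1 * σ c2);
      δ * (c2 * σ c0), δ * (c2 * σ c1), 1 + δ * (c2 * σ c2)] := ⟨_, rfl⟩
    rw [← hN]
    have e : N * (g : M3) = (g : M3) * (tauG W : M3) := by
      have u := fun a b => congrFun (congrFun hu a) b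
      have u0 := u 0 0
      have u1 := u 0 1
      have u2 := u 0 2
      simp [adj, Matrix.mul_apply, Fin.sum_univ_three] at u0 u1 u2
      rw [hN, tau_val, hc0, hc1, hc2, hδ]
      ext i j
      fin_cases i <;> fin_cases j <;> simp [Matrix.mul_apply, Fin.sum_univ_three] <;>
        first
          | linear_combination ((W.ω - 1) * (g : M3) 0 0) * u0
          | linear_combination ((W.ω - 1) * (g : M3) 0 0) * u1
          | linear_combination ((W.ω - 1) * (g : M3) 0 0) * u2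
          | linear_combination ((W.ω - 1) * (g : M3) 1 0) * u0
          | linear_combination ((W.ω - 1) * (g : M3) 1 0) * u1
          | linear_combination ((W.ω - 1) * (g : M3) 1 0) * u2
          | linear_combination ((W.ω - 1) * (g : M3) 2 0) * u0
          | linear_combination ((W.ω - 1) * (g : M3) 2 0) * u1
          | linear_combination ((W.ω - 1) * (g : M3) 2 0) * u2
    rw [hT, Units.val_mul, Units.val_mul, ← e, mul_assoc, ← Units.val_mul, mul_inv_cancel, Units.val_one, mul_one]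
  by_cases hn0 : n = 0
  · -- a degenerate plane yields a transvection
    exfalso
    rw [hn0, add_zero] at hunit
    have hn' : σ c1 * c1 + σ c2 * c2 = 0 := hn ▸ hn0
    let U : K → K → K → M3 := fun a b d => !![1, b * σ c1, b * σ c2; a * c1, 1 + d * (c1 * σ c1), d * (c1 * σ c2);
      a * c2, d * (c2 * σ c1), 1 + d * (c2 * σ c2)]
    have hU : ∀ a b d a' b' d', U a b d * U a' b' d' = U (a + a') (b + b') (d + d' + a * b') := by
      intro a b d a' b' d'
      ext i j; fin_cases i <;> fin_cases j <;>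
        simp [U, Matrix.mul_apply, Fin.sum_univ_three] <;> grind
    obtain ⟨α, hα⟩ : ∃ α : K, α = (1 - W.ω ^ 2) * σ c0 := ⟨_, rfl⟩
    obtain ⟨β, hβ⟩ : ∃ β : K, β = δ * c0 := ⟨_, rfl⟩
    have hk : ((T * (tauG W)⁻¹ : G3) : M3) = U α β δ := by
      rw [Units.val_mul, hTv, hα, hβ, hδ]
      ext i j; fin_cases i <;> fin_cases j <;>
        simp [tauG, U, Matrix.mul_apply, Fin.sum_univ_three] <;> grind [W.cube]
    obtain ⟨k, hk'⟩ : ∃ k : G3, k = T * (tauG W)⁻¹ := ⟨_, rfl⟩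
    rw [← hk'] at hk
    have hkL : k ∈ L := hk' ▸ L.mul_mem hTL (L.inv_mem hL.τ)
    obtain ⟨k2, hk2'⟩ : ∃ k2 : G3, k2 = tauG W * k * (tauG W)⁻¹ := ⟨_, rfl⟩
    have hk2 : (k2 : M3) = U (α * W.ω ^ 2) (β * W.ω) δ := by
      rw [hk2', Units.val_mul, Units.val_mul, hk]
      ext i j; fin_cases i <;> fin_cases j <;>
        simp [tauG, U, Matrix.mul_apply, Fin.sum_univ_three] <;> grind [W.cube]
    have hk2L : k2 ∈ L := hk2' ▸ L.mul_mem (L.mul_mem hL.τ hkL) (L.inv_mem hL.τ)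
    obtain ⟨ε, hε⟩ : ∃ ε : K, ε = α * (β * W.ω) - α * W.ω ^ 2 * β := ⟨_, rfl⟩
    have hcomm : (k : M3) * (k2 : M3) = (k2 : M3) * (k : M3) * U 0 0 ε := by
      rw [hk, hk2, hU, hU, hU, hε]
      congr 1 <;> ring
    have hσc0 : σ c0 ≠ 0 := by rwa [Ne, map_eq_zero]
    have hεne : ε ≠ 0 := by
      rw [hε, hα, hβ, hδ, show (1 - W.ω ^ 2) * σ c0 * ((W.ω - 1) * c0 * W.ω)
          - (1 - W.ω ^ 2) * σ c0 * W.ω ^ 2 * ((W.ω - 1) * c0)
          = (1 - W.ω ^ 2) * (W.ω - 1) * σ c0 * c0 * W.s by rw [Omega.s]; ring]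
      exact mul_ne_zero (mul_ne_zero (mul_ne_zero (mul_ne_zero (sub_ne_zero.2 W.sq_ne_one.symm)
        (sub_ne_zero.2 W.ne_one)) hσc0) h0) W.s_ne
    have hfv : (![0, ε * σ c1, ε * σ c2] : Fin 3 → K) ⬝ᵥ ![0, c1, c2] = 0 := by
      simp [dotProduct, Fin.sum_univ_three]; linear_combination ε * hn'
    have ht : trGL ![0, c1, c2] ![0, ε * σ c1, ε * σ c2] hfv = (k2 * k)⁻¹ * (k * k2) := Units.ext (by
      rw [Units.val_mul, Units.val_mul k k2, hcomm, ← mul_assoc, ← Units.val_mul k2 k, ← Units.val_mul,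
        inv_mul_cancel, Units.val_one, one_mul]
      ext i j; fin_cases i <;> fin_cases j <;> simp [U, trGL, trMat, vecMulVec_apply, Matrix.one_apply] <;> ring)
    rcases hno _ _ hfv (ht ▸ L.mul_mem (L.inv_mem (L.mul_mem hk2L hkL)) (L.mul_mem hkL hk2L)) with h | h
    · exact h12 ⟨by simpa using congrFun h 1, by simpa using congrFun h 2⟩
    · exact h12 ⟨by simpa [hεne] using congrFun h 1, by simpa [hεne] using congrFun h 2⟩
  -- a non-degenerate plane
  obtain ⟨B, hB⟩ : ∃ B : G3, (B : M3) = !![1, 0, 0; 0, c1, -σ c2; 0, c2, σ c1] :=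
    ⟨GeneralLinearGroup.mkOfDetNeZero !![1, 0, 0; 0, c1, -σ c2; 0, c2, σ c1] (by
      rw [det_fin_three]; simp
      intro e; exact hn0 (by rw [hn]; linear_combination e)), rfl⟩
  obtain ⟨x, -, hx, -⟩ := mk_block (M := L) (B := B) hL.τ
    (a := W.ω) (b := 0) (c := 0) (d := 1) (e := 1) (by
      rw [tau_val, hB]
      ext i j; fin_cases i <;> fin_cases j <;> simp [bl, Matrix.mul_apply, Fin.sum_univ_three])
  obtain ⟨y, -, hy, -⟩ := mk_block (M := L) (B := B) hTL
    (a := 1 + δ * (c0 * σ c0)) (b := δ * n * c0) (c := δ * σ c0) (d := 1 + δ * n) (e := 1) (by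
      rw [hTv, hB, hn]
      ext i j; fin_cases i <;> fin_cases j <;>
        simp [bl, Matrix.mul_apply, Fin.sum_univ_three] <;> ring)
  have hS : GeoThree.C6.Small (toP L B).range := by
    refine small_of_offdiag (cases_blockSub hno) hx (by simpa using W.sq_ne_one) hy (fun e => ?_) ?_
    · refine W.sq_ne_one ?_
      rw [hδ] at e
      linear_combination (W.ω - 1) * e - (W.ω - 1) ^ 2 * hunit
    · exact mul_ne_zero (mul_ne_zero (hδ ▸ sub_ne_zero.2 W.ne_one) hn0) h0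
  have hzL := klein_neg hS
  obtain ⟨z, hz⟩ : ∃ z : G3, z = B * z0 * B⁻¹ := ⟨_, rfl⟩
  rw [← hz] at hzL
  have hzB : (z : M3) * (B : M3) = (B : M3) * zMat := by
    rw [hz, ← z0_val, ← Units.val_mul, ← Units.val_mul]
    congr 1
    group
  have eq := fun i j => congrFun (congrFun hzB i) j
  have e00 := eq 0 0; have e10 := eq 1 0; have e20 := eq 2 0
  have e01 := eq 0 1; have e11 := eq 1 1; have e21 := eq 2 1
  have e02 := eq 0 2; have e12 := eq 1 2; have e22 := eq 2 2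
  simp [hB, zMat, Matrix.mul_apply, Fin.sum_univ_three] at e00 e10 e20 e01 e11 e21 e02 e12 e22
  have z01 : (z : M3) 0 1 = 0 := (mul_eq_zero.1 (show (z : M3) 0 1 * n = 0 by
    rw [hn]; linear_combination σ c1 * e01 - c2 * e02)).resolve_right hn0
  have z02 : (z : M3) 0 2 = 0 := (mul_eq_zero.1 (show (z : M3) 0 2 * n = 0 by
    rw [hn]; linear_combination σ c2 * e01 + c1 * e02)).resolve_right hn0
  have hcase := mono hP hL hno hzL z01 z02 e10 e20
  have hsame : ∀ w : G3, w ∈ L → (w : M3) = !![-1, 0, 0; 0, -1, 0; 0, 0, 1] → False := fun w hw ew => by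
    refine h0_not_mem hP hL hno ?_
    rw [show (z0 : G3) = w from Units.ext (by rw [z0_entries, ew])]
    exact L.mul_mem (L.mul_mem hL.p hw) (L.inv_mem hL.p)
  rcases hcase with ⟨z12, z21⟩ | ⟨z11, z22⟩
  · exfalso
    simp [z12, z21] at e11 e21 e12 e22
    by_cases hc10 : c1 = 0
    · have hc20 : c2 ≠ 0 := fun e => h12 ⟨hc10, e⟩
      have hσc2 : σ c2 ≠ 0 := by rwa [Ne, map_eq_zero]
      have z11 : (z : M3) 1 1 = 1 := mul_right_cancel₀ hσc2 (by linear_combination e12)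
      have z22' : (z : M3) 2 2 = -1 := mul_right_cancel₀ hc20 (by linear_combination e21)
      refine hsame _ (L.mul_mem (L.mul_mem hL.p hzL) (L.inv_mem hL.p)) ?_
      rw [Units.val_mul, Units.val_mul]
      ext i j; fin_cases i <;> fin_cases j <;>
        simp [Omega.pG, Matrix.mul_apply, Matrix.vecMul, dotProduct, Fin.sum_univ_three, e00, e10, e20, z01, z02, z12, z21, z11, z22']
    · have hσc1 : σ c1 ≠ 0 := by rwa [Ne, map_eq_zero]
      have z11 : (z : M3) 1 1 = -1 := mul_right_cancel₀ hc10 (by linear_combination e11)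
      have z22' : (z : M3) 2 2 = 1 := mul_right_cancel₀ hσc1 (by linear_combination e22)
      refine hsame z hzL ?_
      ext i j; fin_cases i <;> fin_cases j <;>
        simp [e00, e10, e20, z01, z02, z12, z21, z11, z22']
  · simp [z11, z22] at e11 e21 e12 e22
    have hc20 : c2 ≠ 0 := fun e => by
      refine h12 ⟨?_, e⟩
      rw [e, mul_zero] at e11; linear_combination e11
    have hc10 : c1 ≠ 0 := fun e => by
      refine hc20 ?_
      rw [e, mul_zero] at e21; linear_combination e21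
    refine ⟨by linear_combination σ c1 * e11 - c2 * e12, hc10, hc20, z * W.sG, L.mul_mem hzL (sG_mem hL), ?_⟩
    have z12 : (z : M3) 1 2 = -(c1 / c2) := by field_simp; linear_combination e11
    have z21 : (z : M3) 2 1 = -(c2 / c1) := by field_simp; linear_combination e21
    rw [Units.val_mul]
    ext i j; fin_cases i <;> fin_cases j <;>
      simp [Omega.sG, Matrix.mul_apply, Fin.sum_univ_three, e00, e10, e20, z01, z02, z11, z22, z12, z21]

end

end CfsgLib.Classical.QutritU
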