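import Cfsg.Agent.Lib.Classical.Clifford4.UnitaryBase
import Cfsg.Agent.Lib.Classical.GeoThree.C6.Block

/-!
# Root groups of a unitary group of degree three over the field with `p²` elements
-/

set_option autoImplicit false
set_option linter.unusedSectionVars false

namespace CfsgLib.Classical.QutritU

open Matrix CfsgLib.Classical CfsgLib.Classical.Clifford4
open scoped MatrixGroups

variable {K : Type*} [Field K]

local notation "M3" => Matrix (Fin 3) (Fin 3) K
local notation "G3" => GL (Fin 3) K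

/-- The conjugation of a field with `p²` elements, whose fixed elements are the natural numbers. -/
structure Quad (σ : K →+* K) : Prop where
  invol : ∀ x, σ (σ x) = x
  fix : ∀ x, σ x = x → ∃ n : ℕ, (n : K) = x

/-- The Hermitian product. -/
def hd (σ : K →+* K) (x y : Fin 3 → K) : K := (fun i => σ (x i)) ⬝ᵥ y

variable {σ : K →+* K}

theorem hd_apply (x y : Fin 3 → K) : hd σ x y = σ (x 0) * y 0 + σ (x 1) * y 1 + σ (x 2) * y 2 := by
  simp [hd, dotProduct, Fin.sum_univ_three]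

theorem hd_add (x y z : Fin 3 → K) : hd σ x (y + z) = hd σ x y + hd σ x z := dotProduct_add _ _ _

theorem hd_sub (x y z : Fin 3 → K) : hd σ x (y - z) = hd σ x y - hd σ x z := dotProduct_sub _ _ _

theorem hd_smul (x y : Fin 3 → K) (c : K) : hd σ x (c • y) = c * hd σ x y := by
  rw [hd, dotProduct_smul, smul_eq_mul]; rfl

theorem hd_smul_left (x y : Fin 3 → K) (c : K) : hd σ (c • x) y = σ c * hd σ x y := by
  simp [hd, dotProduct, Finset.mul_sum, mul_assoc]

theorem hd_add_left (x y z : Fin 3 → K) : hd σ (x + y) z = hd σ x z + hd σ y z := by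
  simp [hd, dotProduct, add_mul, Finset.sum_add_distrib]

theorem Quad.symm (hq : Quad σ) (x y : Fin 3 → K) : σ (hd σ x y) = hd σ y x := by
  simp [hd, dotProduct, hq.invol, mul_comm]

/-- A unitary matrix. -/
def IsU (σ : K →+* K) (g : GL (Fin 3) K) : Prop := adj σ (g : Matrix (Fin 3) (Fin 3) K) * g = 1

theorem IsU.hd {g : G3} (hg : IsU σ g) (x y : Fin 3 → K) :
    hd σ ((g : M3) *ᵥ x) ((g : M3) *ᵥ y) = QutritU.hd σ x y := by
  have e : (fun i => σ (((g : M3) *ᵥ x) i)) = (fun i => σ (x i)) ᵥ* adj σ (g : M3) := by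
    funext i
    simp [adj, Matrix.vecMul, Matrix.mulVec, dotProduct, mul_comm]
  rw [QutritU.hd, e, ← dotProduct_mulVec, Matrix.mulVec_mulVec, hg, Matrix.one_mulVec]
  rfl

theorem IsU.mul {g k : G3} (hg : IsU σ g) (hk : IsU σ k) : IsU σ (g * k) := by
  rw [IsU, Units.val_mul, adj_mul, mul_assoc, ← mul_assoc (adj σ (g : M3)), hg, one_mul, hk]

theorem IsU.inv {g : G3} (hg : IsU σ g) : IsU σ g⁻¹ := by
  have e : adj σ (g : M3) = ((g⁻¹ : G3) : M3) := (Units.inv_eq_of_mul_eq_one_left hg).symm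
  have e1 : adj σ ((g⁻¹ : G3) : M3) * adj σ (g : M3) = 1 := by
    rw [← adj_mul, Units.mul_inv, adj_one]
  calc adj σ ((g⁻¹ : G3) : M3) * ((g⁻¹ : G3) : M3) = adj σ ((g⁻¹ : G3) : M3) * adj σ (g : M3) := by rw [e]
    _ = 1 := e1

/-- The root element `x ↦ x + λ (r, x) r`. -/
def rootMat (σ : K →+* K) (r : Fin 3 → K) (l : K) : Matrix (Fin 3) (Fin 3) K :=
  1 + l • vecMulVec r (fun i => σ (r i))

theorem rootMat_mulVec (r : Fin 3 → K) (l : K) (x : Fin 3 → K) :
    rootMat σ r l *ᵥ x = x + (l * hd σ r x) • r := by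
  rw [rootMat, add_mulVec, one_mulVec, smul_mulVec, vecMulVec_mulVec, op_smul_eq_smul, smul_smul]
  rfl

theorem rootMat_mul {r : Fin 3 → K} (hr : hd σ r r = 0) (l m : K) :
    rootMat σ r l * rootMat σ r m = rootMat σ r (l + m) := by
  refine Matrix.ext_of_mulVec_single fun k => ?_
  rw [← mulVec_mulVec, rootMat_mulVec, rootMat_mulVec, rootMat_mulVec, hd_add, hd_smul, hr, mul_zero, add_zero,
    add_assoc, ← add_smul, ← add_mul, add_comm m]

theorem rootMat_conj (g : G3) (hg : IsU σ g) (r : Fin 3 → K) (l : K) :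
    (g : M3) * rootMat σ r l * ((g⁻¹ : G3) : M3) = rootMat σ ((g : M3) *ᵥ r) l := by
  refine Matrix.ext_of_mulVec_single fun k => ?_
  set x : Fin 3 → K := Pi.single k 1
  rw [← mulVec_mulVec, ← mulVec_mulVec, rootMat_mulVec, rootMat_mulVec, mulVec_add, mulVec_smul, mulVec_mulVec,
    ← Units.val_mul, mul_inv_cancel, Units.val_one, one_mulVec]
  congr 3
  conv_rhs => rw [show x = (g : M3) *ᵥ (((g⁻¹ : G3) : M3) *ᵥ x) by
    rw [mulVec_mulVec, ← Units.val_mul, mul_inv_cancel, Units.val_one, one_mulVec]]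
  rw [hg.hd]

/-- All root elements at `r` lie in `L`. -/
def RootIn (σ : K →+* K) (L : Subgroup (GL (Fin 3) K)) (r : Fin 3 → K) : Prop :=
  hd σ r r = 0 ∧ ∀ l, σ l = -l → ∃ g ∈ L, (g : Matrix (Fin 3) (Fin 3) K) = rootMat σ r l

theorem RootIn.conj {L : Subgroup G3} {r : Fin 3 → K} (h : RootIn σ L r) {g : G3} (hg : g ∈ L) (hu : IsU σ g) :
    RootIn σ L ((g : M3) *ᵥ r) :=
  ⟨by rw [hu.hd, h.1], fun l hl => by
    obtain ⟨k, hk, e⟩ := h.2 l hl
    exact ⟨g * k * g⁻¹, L.mul_mem (L.mul_mem hg hk) (L.inv_mem hg), by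
      rw [Units.val_mul, Units.val_mul, e, rootMat_conj g hu]⟩⟩

theorem RootIn.smul {L : Subgroup G3} (hq : Quad σ) {r : Fin 3 → K} (h : RootIn σ L r) (c : K) :
    RootIn σ L (c • r) :=
  ⟨by rw [hd_smul, hd_smul_left, h.1, mul_zero, mul_zero], fun l hl => by
    obtain ⟨k, hk, e⟩ := h.2 (c * σ c * l) (by rw [map_mul, map_mul, hq.invol, hl]; ring)
    refine ⟨k, hk, e.trans (Matrix.ext_of_mulVec_single fun i => ?_)⟩
    rw [rootMat_mulVec, rootMat_mulVec, hd_smul_left, smul_smul]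
    congr 2
    ring⟩

/-- A unitary transvection of a group over the prime field brings its whole root group. -/
theorem rootIn_of_trGL (hq : Quad σ) {L : Subgroup G3} (hU : ∀ g ∈ L, IsU σ g) {v f : Fin 3 → K}
    (hfv : f ⬝ᵥ v = 0) (hv : v ≠ 0) (hf : f ≠ 0) (hmem : trGL v f hfv ∈ L) : RootIn σ L v := by
  classical
  set g := trGL v f hfv with hg
  have key : ∀ x y, hd σ v y * σ (f ⬝ᵥ x) + (f ⬝ᵥ y) * hd σ x v + σ (f ⬝ᵥ x) * (f ⬝ᵥ y) * hd σ v v = 0 := by
    intro x y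
    have e := (hU g hmem).hd x y
    rw [hg, trGL_mulVec, trGL_mulVec, hd_add_left, hd_add, hd_add, hd_smul, hd_smul_left, hd_smul_left,
      hd_smul] at e
    linear_combination e
  obtain ⟨z, hz⟩ : ∃ z, f ⬝ᵥ z = 1 := by
    obtain ⟨i, hi⟩ := Function.ne_iff.1 hf
    refine ⟨Pi.single i (f i)⁻¹, ?_⟩
    rw [dotProduct_single, mul_inv_cancel₀ hi]
  have hvv : hd σ v v = 0 := by
    have e := key z v
    rw [hfv, hz, map_one] at e
    linear_combination e
  obtain ⟨k, hk⟩ : ∃ k, k = -hd σ z v := ⟨_, rfl⟩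
  have hfk : ∀ y, hd σ v y = (f ⬝ᵥ y) * k := fun y => by
    have e := key z y
    rw [hz, map_one, hvv] at e
    rw [hk]
    linear_combination e
  have hk0 : k ≠ 0 := by
    intro h0
    refine hv (funext fun i => ?_)
    have := hfk (Pi.single i 1)
    rw [h0, mul_zero, hd, dotProduct_single, mul_one] at this
    exact (map_eq_zero σ).1 this
  have hl0 : σ k⁻¹ = -k⁻¹ := by
    have e := key z z
    rw [hz, map_one, hvv, ← hq.symm v z, hfk z, hz, one_mul] at e
    rw [map_inv₀, show σ k = -k by linear_combination e, inv_neg]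
  have hgm : (g : M3) = rootMat σ v k⁻¹ := Matrix.ext_of_mulVec_single fun i => by
    rw [hg, trGL_mulVec, rootMat_mulVec, hfk, mul_left_comm, inv_mul_cancel₀ hk0, mul_one]
  have hpow : ∀ n : ℕ, ((g ^ n : G3) : M3) = rootMat σ v ((n : K) * k⁻¹) := by
    intro n
    induction n with
    | zero => simp [rootMat]
    | succ n ih => rw [pow_succ, Units.val_mul, ih, hgm, rootMat_mul hvv]; push_cast; ring_nf
  refine ⟨hvv, fun l hl => ?_⟩
  obtain ⟨n, hn⟩ := hq.fix (l * k) (by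
    have : σ k = -k := by
      have := hl0; rwa [map_inv₀, ← inv_neg, _root_.inv_inj] at this
    rw [map_mul, hl, this, neg_mul_neg])
  exact ⟨g ^ n, L.pow_mem hmem n, by rw [hpow, hn, mul_inv_cancel_right₀ hk0]⟩

/-- Two root groups fill the special isometries of their plane. -/
theorem plane_mem (hq : Quad σ) {ζ : K} (hζ0 : ζ ≠ 0) (hζ : σ ζ = -ζ) {L : Subgroup G3} (hU : ∀ g ∈ L, IsU σ g)
    {r s : Fin 3 → K} (hr : RootIn σ L r) (hs : RootIn σ L s) (hrs : hd σ r s = 1) {g : G3} (hg : IsU σ g)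
    (hfix : ∀ x, hd σ r x = 0 → hd σ s x = 0 → (g : M3) *ᵥ x = x)
    (ha : σ (hd σ s ((g : M3) *ᵥ r)) = hd σ s ((g : M3) *ᵥ r))
    (hc : σ (hd σ r ((g : M3) *ᵥ r)) = -hd σ r ((g : M3) *ᵥ r)) : g ∈ L := by
  classical
  have hsr : hd σ s r = 1 := by rw [← hq.symm r s, hrs, map_one]
  -- decomposition along the plane
  have dec : ∀ x, x = hd σ s x • r + hd σ r x • s + (x - hd σ s x • r - hd σ r x • s) := fun x => by abel
  have dperp : ∀ x, hd σ r (x - hd σ s x • r - hd σ r x • s) = 0 ∧ hd σ s (x - hd σ s x • r - hd σ r x • s) = 0 :=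
    fun x => by constructor <;> simp [hd_sub, hd_smul, hr.1, hs.1, hrs, hsr]
  have nondeg : ∀ z, (∀ y, hd σ y z = 0) → z = 0 := fun z hz => funext fun i => by
    have := hz (Pi.single i 1)
    simpa [hd, dotProduct, Pi.single_apply, apply_ite σ] using this
  have himg : ∀ {k : G3}, IsU σ k → (∀ x, hd σ r x = 0 → hd σ s x = 0 → (k : M3) *ᵥ x = x) →
      ∀ u, (u = r ∨ u = s) → (k : M3) *ᵥ u = hd σ s ((k : M3) *ᵥ u) • r + hd σ r ((k : M3) *ᵥ u) • s := by
    intro k hk hkfix u hu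
    set w := (k : M3) *ᵥ u
    obtain ⟨hp1, hp2⟩ := dperp w
    set z := w - hd σ s w • r - hd σ r w • s with hz
    suffices z = 0 by rw [hz, sub_sub, sub_eq_zero] at this; exact this
    refine nondeg z fun y => ?_
    obtain ⟨hy1, hy2⟩ := dperp y
    have e1 : hd σ (y - hd σ s y • r - hd σ r y • s) w = 0 := by
      rw [← hkfix _ hy1 hy2, hk.hd, ← hq.symm]
      rcases hu with rfl | rfl
      · rw [hy1, map_zero]
      · rw [hy2, map_zero]
    have e2 : hd σ (y - hd σ s y • r - hd σ r y • s) z = 0 := by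
      have ys : hd σ (y - hd σ s y • r - hd σ r y • s) r = 0 := by rw [← hq.symm, hy1, map_zero]
      have yr : hd σ (y - hd σ s y • r - hd σ r y • s) s = 0 := by rw [← hq.symm, hy2, map_zero]
      rw [hz, hd_sub, hd_sub, hd_smul, hd_smul, e1, ys, yr]; ring
    conv_lhs => rw [dec y]
    rw [hd_add_left, hd_add_left, hd_smul_left, hd_smul_left, hp1, hp2, e2]; ring
  -- root elements
  have el : ∀ {u : Fin 3 → K}, RootIn σ L u → ∀ l, σ l = -l → ∃ k ∈ L, (∀ x, (k : M3) *ᵥ x = x + (l * hd σ u x) • u) :=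
    fun hu l hl => by
      obtain ⟨k, hk, e⟩ := hu.2 l hl
      exact ⟨k, hk, fun x => by rw [e, rootMat_mulVec]⟩
  obtain ⟨a, ha'⟩ : ∃ a, a = hd σ s ((g : M3) *ᵥ r) := ⟨_, rfl⟩
  obtain ⟨c, hc'⟩ : ∃ c, c = hd σ r ((g : M3) *ᵥ r) := ⟨_, rfl⟩
  rw [← ha'] at ha
  rw [← hc'] at hc
  have hgr : (g : M3) *ᵥ r = a • r + c • s := by rw [ha', hc']; exact himg hg hfix r (.inl rfl)
  -- a product of root elements with the same effect on `r`
  obtain ⟨k, hk, hkr, hkfix⟩ : ∃ k ∈ L, (k : M3) *ᵥ r = a • r + c • s ∧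
      ∀ x, hd σ r x = 0 → hd σ s x = 0 → (k : M3) *ᵥ x = x := by
    by_cases hc0 : c = 0
    · have ha0 : a ≠ 0 := fun h0 => by
        have := hg.hd s r
        rw [hgr, h0, hc0, zero_smul, zero_smul, add_zero, hd, dotProduct_zero, hsr] at this
        exact zero_ne_one this
      obtain ⟨k1, h1, e1⟩ := el hs ζ hζ
      obtain ⟨k2, h2, e2⟩ := el hr ((a - 1) * ζ⁻¹) (by
        rw [map_mul, map_sub, map_one, ha, map_inv₀, hζ, inv_neg]; ring)
      obtain ⟨k3, h3, e3⟩ := el hs (-ζ * a⁻¹) (by rw [map_mul, map_neg, map_inv₀, ha, hζ]; ring)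
      refine ⟨k3 * k2 * k1, L.mul_mem (L.mul_mem h3 h2) h1, ?_, fun x hx1 hx2 => ?_⟩
      · rw [Units.val_mul, Units.val_mul, ← mulVec_mulVec, ← mulVec_mulVec, e1, hsr, e2, e3]
        simp only [hd_add, hd_smul, hr.1, hs.1, hrs, hsr, hc0, zero_smul, add_zero, mul_one, mul_zero, zero_add]
        match_scalars <;> field_simp <;> ring
      · rw [Units.val_mul, Units.val_mul, ← mulVec_mulVec, ← mulVec_mulVec, e1, hx2, mul_zero, zero_smul, add_zero,
          e2, hx1, mul_zero, zero_smul, add_zero, e3, hx2, mul_zero, zero_smul, add_zero]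
    · obtain ⟨k1, h1, e1⟩ := el hs c hc
      obtain ⟨k2, h2, e2⟩ := el hr ((a - 1) * c⁻¹) (by
        rw [map_mul, map_sub, map_one, ha, map_inv₀, hc, inv_neg]; ring)
      refine ⟨k2 * k1, L.mul_mem h2 h1, ?_, fun x hx1 hx2 => ?_⟩
      · rw [Units.val_mul, ← mulVec_mulVec, e1, hsr, e2]
        simp only [hd_add, hd_smul, hr.1, hrs, mul_one, zero_add]
        match_scalars <;> field_simp <;> ring
      · rw [Units.val_mul, ← mulVec_mulVec, e1, hx2, mul_zero, zero_smul, add_zero, e2, hx1, mul_zero, zero_smul,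
          add_zero]
  obtain ⟨j, hj⟩ : ∃ j : G3, j = k⁻¹ * g := ⟨_, rfl⟩
  have hju : IsU σ j := hj ▸ (hU k hk).inv.mul hg
  have hki : ∀ x y, (k : M3) *ᵥ x = y → ((k⁻¹ : G3) : M3) *ᵥ y = x := fun x y e => by
    rw [← e, mulVec_mulVec, ← Units.val_mul, inv_mul_cancel, Units.val_one, one_mulVec]
  have hjr : (j : M3) *ᵥ r = r := by
    rw [hj, Units.val_mul, ← mulVec_mulVec, hgr, hki r _ hkr]
  have hjfix : ∀ x, hd σ r x = 0 → hd σ s x = 0 → (j : M3) *ᵥ x = x := fun x hx1 hx2 => by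
    rw [hj, Units.val_mul, ← mulVec_mulVec, hfix x hx1 hx2, hki x _ (hkfix x hx1 hx2)]
  have hjs := himg hju hjfix s (.inr rfl)
  obtain ⟨b, hb⟩ : ∃ b, b = hd σ s ((j : M3) *ᵥ s) := ⟨_, rfl⟩
  have hd1 : hd σ r ((j : M3) *ᵥ s) = 1 := by
    have := hju.hd r s
    rwa [hjr, hrs] at this
  rw [hd1, one_smul, ← hb] at hjs
  have hbb : σ b = -b := by
    have := hju.hd s s
    rw [hjs] at this
    simp only [hd_add, hd_smul, hd_add_left, hd_smul_left, hr.1, hs.1, hrs, hsr] at this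
    linear_combination this
  obtain ⟨m, hm, em⟩ := el hr b hbb
  have hjm : j = m := Units.ext (Matrix.ext_of_mulVec_single fun i => by
    set x : Fin 3 → K := Pi.single i 1
    obtain ⟨hx1, hx2⟩ := dperp x
    conv_lhs => rw [dec x]
    rw [mulVec_add, mulVec_add, mulVec_smul, mulVec_smul, hjr, hjs, hjfix _ hx1 hx2, em]
    match_scalars <;> ring)
  rw [show g = k * j by rw [hj, mul_inv_cancel_left], hjm]
  exact L.mul_mem hk hm

end CfsgLib.Classical.QutritU
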