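import Cfsg.Agent.Lib.Classical.QutritU.Three.Root
import Cfsg.Agent.Lib.Classical.GeoThree.C6.Coord
import Cfsg.Agent.Lib.Classical.GeoThree.C6.Three

/-!
# Blocks of a centraliser of an involution in three dimensions
-/

set_option autoImplicit false
set_option linter.unusedSectionVars false
set_option linter.unusedSimpArgs false
set_option linter.style.haveILetI false
set_option backward.isDefEq.respectTransparency false

namespace CfsgLib.Classical.QutritU

open Matrix CfsgLib.Classical CfsgLib.Classical.GeoThree.C6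
open scoped MatrixGroups

variable {K : Type*} [Field K]

local notation "M3" => Matrix (Fin 3) (Fin 3) K
local notation "G3" => GL (Fin 3) K
local notation "M2" => Matrix (Fin 2) (Fin 2) K

/-- A matrix preserving the first two coordinates and the last one. -/
def bl (a b c d e : K) : Matrix (Fin 3) (Fin 3) K := !![a, b, 0; c, d, 0; 0, 0, e]

theorem bl_comm (a b c d e : K) : bl a b c d e * zMat = zMat * bl a b c d e := by
  ext i j; fin_cases i <;> fin_cases j <;> simp [bl, zMat, Matrix.mul_apply, Fin.sum_univ_three]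

variable [Finite K] [Fact ((2 : K) ≠ 0)] {M : Subgroup (GL (Fin 3) K)} {B : GL (Fin 3) K}

theorem blockAt_of_eq {g : G3} {N : M3} (e : (g : M3) * (B : M3) = (B : M3) * N) : blockAt B g = N := by
  rw [blockAt, Units.val_mul, Units.val_mul, mul_assoc, e, ← mul_assoc, ← Units.val_mul, inv_mul_cancel,
    Units.val_one, one_mul]

theorem mk_block {g : G3} (hg : g ∈ M) {a b c d e : K}
    (h : (g : M3) * (B : M3) = (B : M3) * bl a b c d e) :
    ∃ x : blockSub M B, x.1 = g ∧ (toA M B x : M2) = !![a, b; c, d] ∧ toC M B x = e := by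
  have hb : blockAt B g = bl a b c d e := blockAt_of_eq h
  have hB : (B⁻¹ * g * B) * z0 = z0 * (B⁻¹ * g * B) := Units.ext (by
    rw [Units.val_mul, Units.val_mul, z0_val]
    exact (show blockAt B g * zMat = zMat * blockAt B g by rw [hb]; exact bl_comm a b c d e))
  have hmem : g ∈ blockSub M B := mem_blockSub.2 ⟨hg, calc
    g * (B * z0 * B⁻¹) = B * ((B⁻¹ * g * B) * z0) * B⁻¹ := by group
    _ = B * (z0 * (B⁻¹ * g * B)) * B⁻¹ := by rw [hB]
    _ = B * z0 * B⁻¹ * g := by group⟩
  refine ⟨⟨g, hmem⟩, rfl, ?_, ?_⟩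
  · rw [toA_val, hb]; simp [topBlock, bl]
  · change blockAt B g 2 2 = e
    rw [hb]; simp [bl]

theorem diag_pow_eq {x : blockSub M B} {a d : K} (hx : (toA M B x : M2) = !![a, 0; 0, d]) {n : ℕ}
    (h : toP M B x ^ n = 1) : a ^ n = d ^ n := by
  obtain ⟨c, hc⟩ := toP_pow_eq_one_iff.1 h
  have e : ∀ k : ℕ, (!![a, 0; 0, d] : M2) ^ k = !![a ^ k, 0; 0, d ^ k] := by
    intro k
    induction k with
    | zero => ext i j; fin_cases i <;> fin_cases j <;> simp
    | succ k ih =>
      rw [pow_succ, ih]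
      ext i j; fin_cases i <;> fin_cases j <;> simp [Matrix.mul_apply, Fin.sum_univ_two, pow_succ]
  rw [hx, e] at hc
  have h0 := congrFun (congrFun hc 0) 0
  have h1 := congrFun (congrFun hc 1) 1
  simp at h0 h1
  rw [h0, h1]

/-- Elements of a dihedral image commuting with a diagonal element. -/
theorem dih_offdiag (hD : Dihedralish (toP M B).range) {x y : blockSub M B} {a d p q r s : K}
    (hx : (toA M B x : M2) = !![a, 0; 0, d]) (had : a ^ 2 ≠ d ^ 2) (hy : (toA M B y : M2) = !![p, q; r, s])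
    (hps : p + s ≠ 0) : q = 0 ∧ r = 0 := by
  by_contra hqr
  have hy2 : toP M B y ^ 2 ≠ 1 := fun e => by
    obtain ⟨c, hc⟩ := toP_pow_eq_one_iff.1 e
    rw [hy, pow_two] at hc
    have h01 := congrFun (congrFun hc 0) 1
    have h10 := congrFun (congrFun hc 1) 0
    simp [Matrix.mul_apply, Fin.sum_univ_two] at h01 h10
    exact hqr ⟨(mul_eq_zero.1 (show (p + s) * q = 0 by linear_combination h01)).resolve_left hps,
      (mul_eq_zero.1 (show (p + s) * r = 0 by linear_combination h10)).resolve_left hps⟩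
  have hc := hD _ (mem_range_toP x) _ (mem_range_toP y) (fun e => had (diag_pow_eq hx e)) hy2
  rw [← map_mul, ← map_mul, toP_eq_iff] at hc
  obtain ⟨c, -, e⟩ := hc
  rw [map_mul, map_mul, Units.val_mul, Units.val_mul, hx, hy] at e
  have ha : a ≠ 0 ∧ d ≠ 0 := by
    have := ((Matrix.isUnit_iff_isUnit_det _).1 (toA M B x).isUnit).ne_zero
    rw [hx, det_fin_two] at this
    simpa using this
  have h00 := congrFun (congrFun e 0) 0
  have h01 := congrFun (congrFun e 0) 1
  have h10 := congrFun (congrFun e 1) 0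
  have h11 := congrFun (congrFun e 1) 1
  simp [Matrix.mul_apply, Fin.sum_univ_two] at h00 h01 h10 h11
  have hc1 : c = 1 := by
    rcases ne_or_eq p 0 with hp | hp
    · exact mul_right_cancel₀ (mul_ne_zero hp ha.1) (by linear_combination -h00)
    · rw [hp, zero_add] at hps
      exact mul_right_cancel₀ (mul_ne_zero hps ha.2) (by linear_combination -h11)
  subst hc1
  have had' : a - d ≠ 0 := fun e => had (by rw [sub_eq_zero.1 e])
  exact hqr ⟨(mul_eq_zero.1 (show q * (a - d) = 0 by linear_combination -h01)).resolve_right had',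
    (mul_eq_zero.1 (show r * (a - d) = 0 by linear_combination h10)).resolve_right had'⟩

theorem small_of_offdiag (h : Dihedralish (toP M B).range ∨ GeoThree.C6.Small (toP M B).range) {x y : blockSub M B}
    {a d p q r s : K} (hx : (toA M B x : M2) = !![a, 0; 0, d]) (had : a ^ 2 ≠ d ^ 2)
    (hy : (toA M B y : M2) = !![p, q; r, s]) (hps : p + s ≠ 0) (hq : q ≠ 0) : GeoThree.C6.Small (toP M B).range :=
  h.resolve_left fun hD => hq (dih_offdiag hD hx had hy hps).1

theorem proportional {A C : M2} (hA : ¬ ∃ c : K, A = c • 1) (hA0 : A 0 0 + A 1 1 = 0) (hC0 : C 0 0 + C 1 1 = 0)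
    (hc : A * C = C * A) : ∃ k : K, C = k • A := by
  have h2 : (2 : K) ≠ 0 := Fact.out
  have e00 := congrFun (congrFun hc 0) 0
  have e01 := congrFun (congrFun hc 0) 1
  have e10 := congrFun (congrFun hc 1) 0
  simp [Matrix.mul_apply, Fin.sum_univ_two] at e00 e01 e10
  have hA11 : A 1 1 = -A 0 0 := by linear_combination hA0
  have hC11 : C 1 1 = -C 0 0 := by linear_combination hC0
  rw [hA11, hC11] at e01 e10
  have x1 : A 0 0 * C 0 1 = A 0 1 * C 0 0 := mul_left_cancel₀ h2 (by linear_combination e01)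
  have x2 : A 0 0 * C 1 0 = A 1 0 * C 0 0 := mul_left_cancel₀ h2 (by linear_combination -e10)
  have x3 : A 0 1 * C 1 0 = A 1 0 * C 0 1 := by linear_combination e00
  by_cases a0 : A 0 0 = 0
  · by_cases b0 : A 0 1 = 0
    · have c0 : A 1 0 ≠ 0 := fun c0 => hA ⟨0, by
        ext i j; fin_cases i <;> fin_cases j <;> simp [a0, b0, c0, hA11]⟩
      refine ⟨C 1 0 / A 1 0, ?_⟩
      ext i j
      fin_cases i <;> fin_cases j <;> simp <;> field_simp <;> grind
    · refine ⟨C 0 1 / A 0 1, ?_⟩
      ext i j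
      fin_cases i <;> fin_cases j <;> simp <;> field_simp <;> grind
  · refine ⟨C 0 0 / A 0 0, ?_⟩
    ext i j
    fin_cases i <;> fin_cases j <;> simp <;> field_simp <;> grind

/-- A polyhedral image brings the involution of the block. -/
theorem klein_neg (h : GeoThree.C6.Small (toP M B).range) : B * z0 * B⁻¹ ∈ M := by
  obtain ⟨_, ⟨x, rfl⟩, _, ⟨y, rfl⟩, hx1, hy1, hxy, hxx, hyy, hcomm⟩ := h.exists_klein
  obtain ⟨X, hX⟩ : ∃ X : M2, X = toA M B x := ⟨_, rfl⟩
  obtain ⟨Y, hY⟩ : ∃ Y : M2, Y = toA M B y := ⟨_, rfl⟩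
  have hXn : ¬ ∃ c : K, X = c • 1 := fun e => hx1 (toP_eq_one_iff.2 (hX ▸ e))
  have hYn : ¬ ∃ c : K, Y = c • 1 := fun e => hy1 (toP_eq_one_iff.2 (hY ▸ e))
  have tr0 : ∀ {z : blockSub M B}, toP M B z * toP M B z = 1 → (¬ ∃ c : K, (toA M B z : M2) = c • 1) →
      (toA M B z : M2) 0 0 + (toA M B z : M2) 1 1 = 0 := fun {z} e hn => by
    rw [← trace_fin_two]
    exact (pow_scalar hn).1 (toP_pow_eq_one_iff.1 (by rw [pow_two, e]))
  have hX0 : X 0 0 + X 1 1 = 0 := hX ▸ tr0 hxx (hX ▸ hXn)
  have hY0 : Y 0 0 + Y 1 1 = 0 := hY ▸ tr0 hyy (hY ▸ hYn)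
  rw [← map_mul, ← map_mul, toP_eq_iff] at hcomm
  obtain ⟨c, hc0, hc⟩ := hcomm
  rw [map_mul, map_mul, Units.val_mul, Units.val_mul, ← hX, ← hY] at hc
  have hdet : c * c = 1 := by
    have e := congrArg Matrix.det hc
    rw [det_smul, det_mul, det_mul, Fintype.card_fin] at e
    have hne : X.det * Y.det ≠ 0 := mul_ne_zero
      (hX ▸ ((Matrix.isUnit_iff_isUnit_det _).1 (toA M B x).isUnit).ne_zero)
      (hY ▸ ((Matrix.isUnit_iff_isUnit_det _).1 (toA M B y).isUnit).ne_zero)
    exact mul_right_cancel₀ hne (by linear_combination -e)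
  have hneg : c = -1 := by
    rcases mul_self_eq_one_iff.1 hdet with rfl | e
    · rw [one_smul] at hc
      obtain ⟨k, hk⟩ := proportional hXn hX0 hY0 hc.symm
      refine absurd (toP_eq_iff.2 ⟨k, fun e => hYn ⟨0, by rw [hk, e, zero_smul, zero_smul]⟩, ?_⟩) hxy
      rw [← hX, ← hY, hk]
    · exact e
  subst hneg
  -- the commutator
  obtain ⟨w, hw⟩ : ∃ w, w = y * x * y⁻¹ * x⁻¹ := ⟨_, rfl⟩
  have hA : (toA M B w : M2) = -1 := by
    have h1 : ∀ z : blockSub M B, (toA M B z : M2) * (toA M B z⁻¹ : M2) = 1 := fun z => by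
      rw [← Units.val_mul, ← map_mul, mul_inv_cancel, map_one, Units.val_one]
    rw [hw, map_mul, map_mul, map_mul, Units.val_mul, Units.val_mul, Units.val_mul, ← hY, ← hX, hc, neg_smul,
      one_smul, neg_mul, neg_mul, mul_assoc X Y, hY, h1 y, mul_one, hX, h1 x]
  have hC : toC M B w = 1 := by
    have h1 : ∀ z : blockSub M B, toC M B z * toC M B z⁻¹ = 1 := fun z => by
      rw [← map_mul, mul_inv_cancel, map_one]
    rw [hw, map_mul, map_mul, map_mul]
    linear_combination (toC M B y * toC M B y⁻¹) * h1 x + h1 y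
  obtain ⟨p1, p2, p3, p4⟩ := block_zero w.2
  have hb : blockAt B w.1 = zMat := by
    have e := fun i j => congrFun (congrFun ((toA_val (M := M) (B := B) w).symm.trans hA) i) j
    ext i j
    fin_cases i <;> fin_cases j
    exacts [by simpa [topBlock, zMat] using e 0 0, by simpa [topBlock, zMat] using e 0 1,
      by simpa [zMat] using p1, by simpa [topBlock, zMat] using e 1 0, by simpa [topBlock, zMat] using e 1 1,
      by simpa [zMat] using p2, by simpa [zMat] using p3, by simpa [zMat] using p4, by simpa [zMat, toC] using hC]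
  have : w.1 = B * z0 * B⁻¹ := blockAt_injective (B := B) (by
    rw [hb, blockAt, show B⁻¹ * (B * z0 * B⁻¹) * B = (z0 : G3) by group, z0_val])
  exact this ▸ (mem_blockSub.1 w.2).1

end CfsgLib.Classical.QutritU
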